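import Cfsg.Agent.H198.FC.Defs
import Cfsg.Agent.H578.Base3
set_option linter.all false

/-!
# S5764, tools for the reducible cases (helper923)

`base_sec`: three vectors of `B` whose classes modulo `A` have trivial common stabilizer in the solvable semilinear
group `S` (acting completely reducibly on `B / A`).
-/

set_option autoImplicit false

namespace Cfsg.Agent.H923.FC

open Cfsg.Agent.H198.FC

universe u v

section base

variable {K : Type u} [Field K] {V : Type v} [AddCommGroup V] [Module K V]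

theorem semi_add {S : Subgroup (Equiv.Perm V)} (hS : S ≤ Semi K V) {g : Equiv.Perm V} (hg : g ∈ S) (v w : V) :
    g (v + w) = g v + g w := (hS hg).1 v w

theorem semi_zero {S : Subgroup (Equiv.Perm V)} (hS : S ≤ Semi K V) {g : Equiv.Perm V} (hg : g ∈ S) :
    g 0 = 0 := by
  have := semi_add hS hg 0 0
  rw [add_zero] at this
  exact left_eq_add.1 this

/-- the action of `g` on `B` -/
def aB {S : Subgroup (Equiv.Perm V)} (hS : S ≤ Semi K V) {B : Submodule K V}
    (hB : ∀ g ∈ S, ∀ b ∈ B, g b ∈ B) (g : S) : B →+ B where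
  toFun b := ⟨g.1 b, hB g.1 g.2 b b.2⟩
  map_zero' := Subtype.ext (semi_zero hS g.2)
  map_add' x y := Subtype.ext (semi_add hS g.2 x y)

theorem base_sec [Finite V] {S : Subgroup (Equiv.Perm V)} (hS : S ≤ Semi K V) (hhm : ∀ a, hm K V a ∈ S)
    (hsol : Group.IsSolvable S) {A B : Submodule K V} (hAB : A ≤ B) (hA : ∀ g ∈ S, ∀ b ∈ A, g b ∈ A)
    (hB : ∀ g ∈ S, ∀ b ∈ B, g b ∈ B)
    (hcr : ∀ C : Submodule K V, A ≤ C → C ≤ B → (∀ g ∈ S, ∀ c ∈ C, g c ∈ C) →
      ∃ C' : Submodule K V, A ≤ C' ∧ C' ≤ B ∧ (∀ g ∈ S, ∀ c ∈ C', g c ∈ C') ∧ C ⊓ C' = A ∧ C ⊔ C' = B) :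
    ∃ w : Fin 3 → V, (∀ i, w i ∈ B) ∧ ∀ g ∈ S, (∀ i, g (w i) - w i ∈ A) → ∀ b ∈ B, g b - b ∈ A := by
  classical
  let N : AddSubgroup B := (A.comap B.subtype).toAddSubgroup
  have hN : ∀ b : B, b ∈ N ↔ (b : V) ∈ A := fun b => Iff.rfl
  have hNg : ∀ g : S, N ≤ N.comap (aB hS hB g) := fun g b hb => hA g.1 g.2 b hb
  let _ : DistribMulAction S (B ⧸ N) :=
    { smul := fun g m => QuotientAddGroup.map N N (aB hS hB g) (hNg g) m
      one_smul := by
        intro m
        obtain ⟨b, rfl⟩ := QuotientAddGroup.mk_surjective m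
        rfl
      mul_smul := by
        intro g h m
        obtain ⟨b, rfl⟩ := QuotientAddGroup.mk_surjective m
        rfl
      smul_zero := fun g => map_zero (QuotientAddGroup.map N N (aB hS hB g) (hNg g))
      smul_add := fun g => map_add (QuotientAddGroup.map N N (aB hS hB g) (hNg g)) }
  have hsm : ∀ (g : S) (b : B), g • (QuotientAddGroup.mk b : B ⧸ N) = QuotientAddGroup.mk (aB hS hB g b) :=
    fun g b => rfl
  let ρ : S →* Equiv.Perm (B ⧸ N) := MulAction.toPermHom S (B ⧸ N)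
  have hρ : ∀ (g : S) (m : B ⧸ N), ρ g m = g • m := fun g m => rfl
  let _ : DistribMulAction ρ.range (B ⧸ N) :=
    { smul := fun σ m => σ.1 m
      one_smul := fun m => rfl
      mul_smul := fun σ τ m => rfl
      smul_zero := by
        rintro ⟨_, g, rfl⟩
        exact smul_zero g
      smul_add := by
        rintro ⟨_, g, rfl⟩ x y
        exact smul_add g x y }
  have hfa : FaithfulSMul ρ.range (B ⧸ N) := ⟨fun {a b} h => Subtype.ext (Equiv.ext h)⟩
  have hsolρ : Group.IsSolvable ρ.range :=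
    Group.isSolvable_of_surjective (f := ρ.rangeRestrict) ρ.rangeRestrict_surjective
  have : Finite (B ⧸ N) := Quotient.finite _
  obtain ⟨v₁, v₂, v₃, hv⟩ := Cfsg.Agent.H578.base3 (A := ρ.range) (V := B ⧸ N) hsolρ (by
    intro U hU
    have hU' : ∀ (g : S), ∀ m ∈ U, g • m ∈ U := fun g m hm => hU ⟨ρ g, g, rfl⟩ m hm
    let C : Submodule K V :=
      { carrier := {x | ∃ h : x ∈ B, (QuotientAddGroup.mk ⟨x, h⟩ : B ⧸ N) ∈ U}
        zero_mem' := ⟨B.zero_mem, U.zero_mem⟩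
        add_mem' := by
          rintro x y ⟨hx, hx'⟩ ⟨hy, hy'⟩
          exact ⟨B.add_mem hx hy, U.add_mem hx' hy'⟩
        smul_mem' := by
          rintro c x ⟨hx, hx'⟩
          by_cases hc : c = 0
          · subst hc
            refine ⟨by rw [zero_smul]; exact B.zero_mem, ?_⟩
            have : (⟨(0 : K) • x, by rw [zero_smul]; exact B.zero_mem⟩ : B) = 0 := Subtype.ext (zero_smul _ _)
            rw [this]
            exact U.zero_mem
          · exact ⟨B.smul_mem _ hx, hU' ⟨hm K V (Units.mk0 c hc), hhm _⟩ _ hx'⟩ }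
    have hC : ∀ x : V, x ∈ C ↔ ∃ h : x ∈ B, (QuotientAddGroup.mk ⟨x, h⟩ : B ⧸ N) ∈ U := fun x => Iff.rfl
    have hAC : A ≤ C := fun x hx => ⟨hAB hx, by
      have : (QuotientAddGroup.mk (⟨x, hAB hx⟩ : B) : B ⧸ N) = 0 := (QuotientAddGroup.eq_zero_iff _).2 hx
      rw [this]; exact U.zero_mem⟩
    obtain ⟨C', hAC', hC'B, hC'inv, hinf, hsup⟩ := hcr C hAC (fun x hx => hx.1) (by
      rintro g hg c ⟨hc, hc'⟩
      exact ⟨hB g hg c hc, hU' ⟨g, hg⟩ _ hc'⟩)
    refine ⟨(C'.comap B.subtype).toAddSubgroup.map (QuotientAddGroup.mk' N), ?_, ?_, ?_⟩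
    · rintro ⟨_, g, rfl⟩ w ⟨b, hb, rfl⟩
      exact ⟨aB hS hB g b, hC'inv g.1 g.2 b hb, rfl⟩
    · rw [eq_bot_iff]
      rintro w ⟨hw, b, hb, rfl⟩
      have hb1 : (b : V) ∈ C := ⟨b.2, hw⟩
      have : (b : V) ∈ C ⊓ C' := ⟨hb1, hb⟩
      rw [hinf] at this
      exact (QuotientAddGroup.eq_zero_iff _).2 this
    · rw [eq_top_iff]
      rintro w -
      obtain ⟨b, rfl⟩ := QuotientAddGroup.mk_surjective w
      have hb : (b : V) ∈ C ⊔ C' := by rw [hsup]; exact b.2
      obtain ⟨c, hc, c', hc', hcc⟩ := Submodule.mem_sup.1 hb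
      have e : b = (⟨c, hc.1⟩ : B) + (⟨c', hC'B hc'⟩ : B) := Subtype.ext hcc.symm
      rw [e, QuotientAddGroup.mk_add]
      obtain ⟨hcB, hcU⟩ := hc
      exact AddSubgroup.add_mem _ (AddSubgroup.mem_sup_left hcU)
        (AddSubgroup.mem_sup_right ⟨⟨c', hC'B hc'⟩, hc', rfl⟩))
  obtain ⟨b₁, rfl⟩ := QuotientAddGroup.mk_surjective v₁
  obtain ⟨b₂, rfl⟩ := QuotientAddGroup.mk_surjective v₂
  obtain ⟨b₃, rfl⟩ := QuotientAddGroup.mk_surjective v₃
  have hsub : ∀ (g : Equiv.Perm V) (hg : g ∈ S) (b : B),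
      (⟨g, hg⟩ : S) • (QuotientAddGroup.mk b : B ⧸ N) = QuotientAddGroup.mk b ↔ g b - b ∈ A := by
    intro g hg b
    rw [hsm, eq_comm, QuotientAddGroup.eq, hN]
    have : ((-b + aB hS hB ⟨g, hg⟩ b : B) : V) = g b - b := by
      change -(b : V) + g b = g b - b
      abel
    rw [this]
  refine ⟨![b₁, b₂, b₃], ?_, ?_⟩
  · intro i
    fin_cases i
    exacts [b₁.2, b₂.2, b₃.2]
  · intro g hg hfix b hb
    have h1 := hv ⟨ρ ⟨g, hg⟩, ⟨g, hg⟩, rfl⟩ ((hsub g hg b₁).2 (hfix 0)) ((hsub g hg b₂).2 (hfix 1))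
      ((hsub g hg b₃).2 (hfix 2))
    have h2 : ρ ⟨g, hg⟩ = 1 := congrArg Subtype.val h1
    have h3 : (⟨g, hg⟩ : S) • (QuotientAddGroup.mk (⟨b, hb⟩ : B) : B ⧸ N) = QuotientAddGroup.mk ⟨b, hb⟩ := by
      rw [← hρ, h2]
      rfl
    exact (hsub g hg ⟨b, hb⟩).1 h3

end base

section det

theorem one_add_pow_of_sq {R : Type*} [Ring R] {N : R} (h : N * N = 0) (k : ℕ) : (1 + N) ^ k = 1 + k • N := by
  induction k with
  | zero => simp
  | succ k ih =>
    rw [pow_succ, ih, add_mul, one_mul, mul_add, mul_one, smul_mul_assoc, h, smul_zero, add_zero, succ_nsmul]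
    abel

/-- `1 + N` has determinant one if `N² = 0` -/
theorem det_one_add {K : Type u} [Field K] [Finite K] {V : Type v} [AddCommGroup V] [Module K V]
    {N : Module.End K V} (h : N * N = 0) : LinearMap.det (1 + N) = 1 := by
  obtain ⟨p, hp⟩ := CharP.exists K
  have hpp : p.Prime := (CharP.char_is_prime_or_zero K p).resolve_right (by
    rintro rfl
    have := CharP.charP_to_charZero K
    exact not_finite K)
  have : Fact p.Prime := ⟨hpp⟩
  have h1 : (1 + N) ^ p = 1 := by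
    rw [one_add_pow_of_sq h, ← Nat.cast_smul_eq_nsmul K, CharP.cast_eq_zero, zero_smul, add_zero]
  have h2 : LinearMap.det (1 + N) ^ p = 1 := by rw [← map_pow, h1, map_one]
  have h3 : (LinearMap.det (1 + N) - 1) ^ p = 0 := by rw [sub_pow_char, h2, one_pow, sub_self]
  exact sub_eq_zero.1 (pow_eq_zero_iff hpp.ne_zero |>.1 h3)

/-- the unit `1 + N`, `N² = 0` -/
def un {R : Type*} [Ring R] (N : R) (h : N * N = 0) : Rˣ where
  val := 1 + N
  inv := 1 - N
  val_inv := by rw [mul_sub, mul_one, add_mul, one_mul, h, add_zero, add_sub_cancel_right]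
  inv_val := by rw [mul_add, mul_one, sub_mul, one_mul, h, sub_zero, sub_add_cancel]

end det

section star

variable {K : Type u} [Field K] {V : Type v} [AddCommGroup V] [Module K V]

theorem exists_proj (W : Submodule K V) : ∃ e : R K V, (∀ v, e v ∈ W) ∧ ∀ v ∈ W, e v = v := by
  obtain ⟨f, hf⟩ := LinearMap.exists_leftInverse_of_injective W.subtype (by simp)
  refine ⟨W.subtype.comp f, fun v => (f v).2, fun v hv => ?_⟩
  have := LinearMap.congr_fun hf ⟨v, hv⟩
  change f v = ⟨v, hv⟩ at this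
  change ((f v : W) : V) = v
  rw [this]

theorem app_inv {α : Type*} (f : Equiv.Perm α) (x : α) : f (f⁻¹ x) = x := f.apply_symm_apply x

theorem inv_app {α : Type*} (f : Equiv.Perm α) (x : α) : f⁻¹ (f x) = x := f.symm_apply_apply x

theorem add0 {f : Equiv.Perm (R K V)} (h : ∀ X Y, f (X + Y) = f X + f Y) : f 0 = 0 := by
  have := h 0 0
  rw [add_zero] at this
  exact left_eq_add.1 this

theorem kill_of_stb {f : Equiv.Perm (R K V)} (hf : f ∈ RP K V) {W : Submodule K V} (h : Stb f⁻¹ W) {Y : R K V}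
    (hY : ∀ w ∈ W, Y w = 0) : ∀ w ∈ W, f Y w = 0 := by
  obtain ⟨e, he, he'⟩ := exists_proj W
  have h1 := h e he
  have h2 : Y * (f⁻¹ e) = 0 := LinearMap.ext fun v => hY _ (h1 v)
  have h3 : f Y * e = 0 := by
    have := congrArg f h2
    rwa [hf.2, add0 hf.1, app_inv] at this
  intro w hw
  have := LinearMap.congr_fun h3 w
  rw [Module.End.mul_apply, he' w hw] at this
  exact this

/-- the subspace associated to `W` by the correlation `f` -/
def star (f : Equiv.Perm (R K V)) (W : Submodule K V) : Submodule K V where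
  carrier := {w | ∀ X : R K V, (∀ v, X v ∈ W) → f X w = 0}
  zero_mem' := fun X _ => map_zero _
  add_mem' := fun {a b} ha hb X hX => by rw [map_add, ha X hX, hb X hX, add_zero]
  smul_mem' := fun c a ha X hX => by rw [map_smul, ha X hX, smul_zero]

theorem mem_star {f : Equiv.Perm (R K V)} {W : Submodule K V} {w : V} :
    w ∈ star f W ↔ ∀ X : R K V, (∀ v, X v ∈ W) → f X w = 0 := Iff.rfl

theorem star_anti (f : Equiv.Perm (R K V)) {W W' : Submodule K V} (h : W ≤ W') : star f W' ≤ star f W :=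
  fun _ hw X hX => hw X fun v => h (hX v)

variable {S : Subgroup (Equiv.Perm (R K V))}

/-- the lattice of invariant subspaces of `S ∩ RP` -/
def Lat (S : Subgroup (Equiv.Perm (R K V))) (W : Submodule K V) : Prop := ∀ f ∈ S, f ∈ RP K V → Stb f W

theorem Lat.inf {W W' : Submodule K V} (h : Lat S W) (h' : Lat S W') : Lat S (W ⊓ W') := fun f hf hfP X hX v =>
  ⟨h f hf hfP X (fun v => (hX v).1) v, h' f hf hfP X (fun v => (hX v).2) v⟩

theorem anti_mul (hS : S ≤ RA K V) {f : Equiv.Perm (R K V)} (hf : f ∈ S) (hfP : f ∉ RP K V) (X Y : R K V) :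
    f (X * Y) = f Y * f X := by
  obtain ⟨h0, h1 | h1⟩ := hS hf
  · exact absurd ⟨h0, h1⟩ hfP
  · exact h1 X Y

theorem anti_anti (hS : S ≤ RA K V) {f g : Equiv.Perm (R K V)} (hf : f ∈ S) (hfP : f ∉ RP K V) (hg : g ∈ S)
    (hgP : g ∉ RP K V) : f * g ∈ RP K V := by
  refine ⟨fun X Y => ?_, fun X Y => ?_⟩
  · change f (g (X + Y)) = f (g X) + f (g Y)
    rw [(hS hg).1, (hS hf).1]
  · change f (g (X * Y)) = f (g X) * f (g Y)
    rw [anti_mul hS hg hgP, anti_mul hS hf hfP]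

theorem inv_not {f : Equiv.Perm (R K V)} (hf : f ∉ RP K V) : f⁻¹ ∉ RP K V := fun h => hf (by simpa using inv_mem h)

variable (hS : S ≤ RA K V) {κ : Equiv.Perm (R K V)} (hκ : κ ∈ S) (hκP : κ ∉ RP K V)
include hS hκ hκP

theorem Lat.star {W : Submodule K V} (h : Lat S W) : Lat S (star κ W) := by
  intro f hf hfP Z hZ v X hX
  -- `κ X * f Z = 0`
  have h1 : κ⁻¹ * f⁻¹ * κ ∈ RP K V := by
    have h2 : f⁻¹ * κ ∉ RP K V := fun h3 => hκP (by simpa using mul_mem hfP h3)
    have := anti_anti hS (inv_mem hκ) (inv_not hκP) (mul_mem (inv_mem hf) hκ) h2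
    rwa [← mul_assoc] at this
  have h2 : ∀ v, (κ⁻¹ * f⁻¹ * κ) X v ∈ W := h _ (mul_mem (mul_mem (inv_mem hκ) (inv_mem hf)) hκ) h1 X hX
  have h3 : κ ((κ⁻¹ * f⁻¹ * κ) X) * Z = 0 := LinearMap.ext fun v => hZ v _ h2
  have h4 : κ ((κ⁻¹ * f⁻¹ * κ) X) = f⁻¹ (κ X) := by
    change κ (κ⁻¹ (f⁻¹ (κ X))) = _
    exact app_inv _ _
  have h5 : κ X * f Z = 0 := by
    rw [h4] at h3
    have := congrArg f h3
    rwa [hfP.2, add0 hfP.1, app_inv] at this
  exact LinearMap.congr_fun h5 v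

theorem cor_star {W : Submodule K V} (h : Lat S W) {f : Equiv.Perm (R K V)} (hf : f ∈ S) (hfP : f ∉ RP K V) :
    Cor f W (star κ W) := by
  intro X hX w hw
  have h1 : f * κ⁻¹ ∈ RP K V := anti_anti hS hf hfP (inv_mem hκ) (inv_not hκP)
  have h2 := Lat.star hS hκ hκP h _ (inv_mem (mul_mem hf (inv_mem hκ))) (inv_mem h1)
  have h3 := kill_of_stb h1 h2 (Y := κ X) (fun w hw => hw X hX) w hw
  have h4 : (f * κ⁻¹) (κ X) = f X := by
    change f (κ⁻¹ (κ X)) = _
    rw [inv_app]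
  rwa [h4] at h3

theorem le_star_star {W : Submodule K V} (h : Lat S W) : W ≤ star κ (star κ W) := by
  intro w hw Z hZ
  obtain ⟨e, he, he'⟩ := exists_proj W
  have h1 : κ⁻¹ * κ⁻¹ ∈ RP K V := anti_anti hS (inv_mem hκ) (inv_not hκP) (inv_mem hκ) (inv_not hκP)
  have h2 := h _ (mul_mem (inv_mem hκ) (inv_mem hκ)) h1 e he
  have h3 : κ ((κ⁻¹ * κ⁻¹) e) * Z = 0 := LinearMap.ext fun v => hZ v _ h2
  have h4 : κ ((κ⁻¹ * κ⁻¹) e) = κ⁻¹ e := by
    change κ (κ⁻¹ (κ⁻¹ e)) = _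
    exact app_inv _ _
  rw [h4] at h3
  have h5 := congrArg κ h3
  rw [anti_mul hS hκ hκP, add0 (hS hκ).1, app_inv] at h5
  have := LinearMap.congr_fun h5 w
  rw [Module.End.mul_apply, he' w hw] at this
  exact this

end star

end Cfsg.Agent.H923.FC
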