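import Cfsg.Agent.H923.FC.Base
import Mathlib
import Cfsg.Agent.H198.FC.Defs
import Cfsg.Agent.H578.Base3
import Cfsg.Agent.H466.FC.S00
import Cfsg.Agent.H55.FC.T3
import Cfsg.Agent.H277.FC.SN
import Cfsg.Agent.H200.FC.Bridge
set_option linter.all false

-- part: H923/FC/Flag
section
/-!
# S5764, reducible subgroups with a correlation, the case of a non-zero flag `A ≤ A*` (helper923)
-/

set_option autoImplicit false

namespace Cfsg.Agent.H923.FC

open Cfsg.Agent.H198.FC

universe u v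

section ring

variable {Q : Type*} [Ring Q]

/-- idempotents of a decomposition `V = A ⊕ M ⊕ A'` together with isomorphisms `J : A' → A`, `L = J⁻¹` -/
structure Idm (e1 e2 e3 J L : Q) : Prop where
  h11 : e1 * e1 = e1
  h22 : e2 * e2 = e2
  h33 : e3 * e3 = e3
  h12 : e1 * e2 = 0
  h13 : e1 * e3 = 0
  h21 : e2 * e1 = 0
  h23 : e2 * e3 = 0
  h31 : e3 * e1 = 0
  h32 : e3 * e2 = 0
  hs : e1 + e2 + e3 = 1
  h1J : e1 * J = J
  hJ3 : J * e3 = J
  h3L : e3 * L = L
  hL1 : L * e1 = L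
  hJL : J * L = e1
  hLJ : L * J = e3

namespace Idm

variable {e1 e2 e3 J L : Q} (h : Idm e1 e2 e3 J L)
include h

theorem h2J : e2 * J = 0 := by rw [← h.h1J, ← mul_assoc, h.h21, zero_mul]
theorem h3J : e3 * J = 0 := by rw [← h.h1J, ← mul_assoc, h.h31, zero_mul]
theorem hJ1 : J * e1 = 0 := by rw [← h.hJ3, mul_assoc, h.h31, mul_zero]
theorem hJ2 : J * e2 = 0 := by rw [← h.hJ3, mul_assoc, h.h32, mul_zero]
theorem h1L : e1 * L = 0 := by rw [← h.h3L, ← mul_assoc, h.h13, zero_mul]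
theorem h2L : e2 * L = 0 := by rw [← h.h3L, ← mul_assoc, h.h23, zero_mul]
theorem hL3 : L * e3 = 0 := by rw [← h.hL1, mul_assoc, h.h13, mul_zero]
theorem hL2 : L * e2 = 0 := by rw [← h.hL1, mul_assoc, h.h12, mul_zero]
theorem hJJ : J * J = 0 := by
  have : J * J = J * e3 * J := by rw [h.hJ3]
  rw [this, mul_assoc, h.h3J, mul_zero]
theorem hLL : L * L = 0 := by
  have : L * L = L * e1 * L := by rw [h.hL1]
  rw [this, mul_assoc, h.h1L, mul_zero]

theorem hJJ' : -J * -J = 0 := by rw [neg_mul_neg, h.hJJ]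

/-- the unit `e2 - J + L` -/
def x : Qˣ := un (-J) h.hJJ' * un L h.hLL * un (-J) h.hJJ'

theorem x_val : (h.x : Q) = e2 - J + L := by
  have h1 : (h.x : Q) = (1 + -J) * (1 + L) * (1 + -J) := rfl
  have h2 : (1 : Q) = e1 + e2 + e3 := h.hs.symm
  have h3 : (1 + -J) * (1 + L) * (1 + -J) = 1 - J - J + L + J * J - J * L - L * J + J * L * J := by noncomm_ring
  rw [h1, h3, h.hJJ, h.hJL, h.hLJ, h.h1J, h2]
  abel

theorem x1 : e1 * (h.x : Q) = h.x * e3 := by
  rw [h.x_val, mul_add, mul_sub, add_mul, sub_mul, h.h12, h.h1J, h.h1L, h.h23, h.hJ3, h.hL3]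

theorem x3 : e3 * (h.x : Q) = h.x * e1 := by
  rw [h.x_val, mul_add, mul_sub, add_mul, sub_mul, h.h32, h.h3J, h.h3L, h.h21, h.hJ1, h.hL1]

theorem x2 : e2 * (h.x : Q) = h.x * e2 := by
  rw [h.x_val, mul_add, mul_sub, add_mul, sub_mul, h.h22, h.h2J, h.h2L, h.hJ2, h.hL2]

theorem x1' : ((h.x⁻¹ : Qˣ) : Q) * e1 = e3 * (h.x⁻¹ : Qˣ) := by
  rw [Units.inv_mul_eq_iff_eq_mul, ← mul_assoc, ← h.x1, mul_assoc, Units.mul_inv, mul_one]

theorem x3' : ((h.x⁻¹ : Qˣ) : Q) * e3 = e1 * (h.x⁻¹ : Qˣ) := by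
  rw [Units.inv_mul_eq_iff_eq_mul, ← mul_assoc, ← h.x3, mul_assoc, Units.mul_inv, mul_one]

end Idm

end ring

section perm

variable {K : Type u} [Field K] {V : Type v} [AddCommGroup V] [Module K V]

theorem cj_conj (x : (R K V)ˣ) (f : Equiv.Perm (R K V)) (Z : R K V) :
    (cj K V x * f * (cj K V x)⁻¹) (x * Z * (x⁻¹ : (R K V)ˣ)) = x * f Z * (x⁻¹ : (R K V)ˣ) := by
  have h1 : (cj K V x)⁻¹ (x * Z * (x⁻¹ : (R K V)ˣ)) = Z := by
    rw [← cj_apply, inv_app]
  change cj K V x (f ((cj K V x)⁻¹ (x * Z * (x⁻¹ : (R K V)ˣ)))) = _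
  rw [h1, cj_apply]

theorem conj_RP {f : Equiv.Perm (R K V)} (x : (R K V)ˣ) (hf : f ∈ RP K V) :
    cj K V x * f * (cj K V x)⁻¹ ∈ RP K V :=
  mul_mem (mul_mem (cj_mem_RP x) hf) (inv_mem (cj_mem_RP x))

theorem conj_not {f : Equiv.Perm (R K V)} (x : (R K V)ˣ) (hf : f ∉ RP K V) :
    cj K V x * f * (cj K V x)⁻¹ ∉ RP K V := fun h => hf (by
  have := mul_mem (mul_mem (inv_mem (cj_mem_RP x)) h) (cj_mem_RP x)
  simpa [mul_assoc] using this)

theorem f_one {f : Equiv.Perm (R K V)} (hf : f ∈ RP K V) : f 1 = 1 := by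
  obtain ⟨Z, hZ⟩ := f.surjective 1
  have := hf.2 1 Z
  rw [one_mul, hZ, mul_one] at this
  exact this.symm

theorem anti_one {f : Equiv.Perm (R K V)} (h : ∀ X Y, f (X * Y) = f Y * f X) : f 1 = 1 := by
  obtain ⟨Z, hZ⟩ := f.surjective 1
  have := h 1 Z
  rw [one_mul, hZ, one_mul] at this
  exact this.symm

theorem f_sub {f : Equiv.Perm (R K V)} (h : ∀ X Y, f (X + Y) = f X + f Y) (X Y : R K V) :
    f (X - Y) = f X - f Y := by
  rw [eq_sub_iff_add_eq, ← h, sub_add_cancel]

variable {e1 e2 e3 J L : R K V} (h : Idm e1 e2 e3 J L)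

/-- the conditions on the elements of `S ∩ RP` -/
def St (e1 e3 : R K V) (f : Equiv.Perm (R K V)) : Prop :=
  (∀ X, e1 * X = X → e1 * f X = f X) ∧ ∀ X, e3 * X = 0 → e3 * f X = 0

/-- the conditions on the correlations -/
def Co (e1 e3 : R K V) (f : Equiv.Perm (R K V)) : Prop :=
  (∀ X, e1 * X = X → f X * e3 = f X) ∧ ∀ X, e3 * X = 0 → f X * e1 = 0

omit h in
theorem e_one (h : Idm e1 e2 e3 J L) : 1 - e3 = e1 + e2 ∧ 1 - e1 = e2 + e3 := by
  rw [← h.hs]
  constructor <;> abel

/-- the conditions on the unit `x` -/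
structure Xu (e1 e2 e3 : R K V) (x : (R K V)ˣ) : Prop where
  x1 : e1 * (x : R K V) = x * e3
  x2 : e2 * (x : R K V) = x * e2
  x3 : e3 * (x : R K V) = x * e1
  x1' : ((x⁻¹ : (R K V)ˣ) : R K V) * e1 = e3 * (x⁻¹ : (R K V)ˣ)
  x3' : ((x⁻¹ : (R K V)ˣ) : R K V) * e3 = e1 * (x⁻¹ : (R K V)ˣ)
  hx1 : (x : R K V) * e3 * (x⁻¹ : (R K V)ˣ) = e1
  hx2 : (x : R K V) * (e2 + e3) * (x⁻¹ : (R K V)ˣ) = e1 + e2

theorem Idm.xu : Xu e1 e2 e3 h.x := ⟨h.x1, h.x2, h.x3, h.x1', h.x3',
  by rw [← h.x1, mul_assoc, Units.mul_inv, mul_one],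
  by rw [mul_add, ← h.x1, ← h.x2, ← add_mul, mul_assoc, Units.mul_inv, mul_one, add_comm]⟩

include h

theorem step1 {x : (R K V)ˣ} (hx : Xu e1 e2 e3 x) {f : Equiv.Perm (R K V)} (hf : f ∈ RP K V) (h1 : St e1 e3 f)
    (h2 : St e1 e3 (cj K V x * f * (cj K V x)⁻¹)) : f e1 = e1 ∧ f e2 = e2 ∧ f e3 = e3 := by
  -- `f e3 = e3`
  have a1 := h2.1 e1 h.h11
  have a0 := cj_conj x f e3
  rw [hx.hx1] at a0
  rw [a0, ← mul_assoc, ← mul_assoc, hx.x1, Units.mul_left_inj, mul_assoc, Units.mul_right_inj] at a1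
  have a1' : e3 * f e3 = f e3 := a1
  have a2 := h1.2 (1 - e3) (by rw [mul_sub, mul_one, h.h33, sub_self])
  rw [f_sub hf.1, f_one hf, mul_sub, mul_one, a1', sub_eq_zero] at a2
  -- `f e1 = e1`
  have b1 := h2.2 (e1 + e2) (by rw [mul_add, h.h31, h.h32, add_zero])
  have b0 := cj_conj x f (e2 + e3)
  rw [hx.hx2] at b0
  rw [b0, ← mul_assoc, ← mul_assoc, hx.x3, mul_assoc, mul_assoc] at b1
  have b1' : e1 * f (e2 + e3) = 0 := by
    have h3 : (x : R K V) * (e1 * (f (e2 + e3) * ((x⁻¹ : (R K V)ˣ) : R K V))) = x * 0 := by rw [b1, mul_zero]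
    have := (Units.mul_right_inj x).1 h3
    rw [← mul_assoc] at this
    have h4 : e1 * f (e2 + e3) * ((x⁻¹ : (R K V)ˣ) : R K V) = 0 * ((x⁻¹ : (R K V)ˣ) : R K V) := by
      rw [this, zero_mul]
    exact (Units.mul_left_inj x⁻¹).1 h4
  have b2 := h1.1 e1 h.h11
  have b3 : f (e2 + e3) = 1 - f e1 := by rw [← (e_one h).2, f_sub hf.1, f_one hf]
  rw [b3, mul_sub, mul_one, b2, sub_eq_zero] at b1'
  have c3 : f e2 = e2 := by
    have : e2 = 1 - e1 - e3 := by rw [← h.hs]; abel
    rw [this, f_sub hf.1, f_sub hf.1, f_one hf, ← b1', ← a2]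
  exact ⟨b1'.symm, c3, a2.symm⟩

theorem step1' {x : (R K V)ˣ} (hx : Xu e1 e2 e3 x) {f : Equiv.Perm (R K V)} (hf : ∀ X Y, f (X + Y) = f X + f Y)
    (ha : ∀ X Y, f (X * Y) = f Y * f X) (h1 : Co e1 e3 f) (h2 : Co e1 e3 (cj K V x * f * (cj K V x)⁻¹)) :
    f e1 = e3 ∧ f e2 = e2 ∧ f e3 = e1 := by
  -- `f e3 = e1`
  have a1 := h2.1 e1 h.h11
  have a0 := cj_conj x f e3
  rw [hx.hx1] at a0
  rw [a0, mul_assoc, hx.x3', ← mul_assoc] at a1
  have a1' : f e3 * e1 = f e3 := by
    have := (Units.mul_left_inj x⁻¹).1 a1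
    rw [mul_assoc] at this
    exact (Units.mul_right_inj x).1 this
  have a2 := h1.2 (1 - e3) (by rw [mul_sub, mul_one, h.h33, sub_self])
  rw [f_sub hf, anti_one ha, sub_mul, one_mul, a1', sub_eq_zero] at a2
  -- `f e1 = e3`
  have b1 := h2.2 (e1 + e2) (by rw [mul_add, h.h31, h.h32, add_zero])
  have b0 := cj_conj x f (e2 + e3)
  rw [hx.hx2] at b0
  rw [b0, mul_assoc, hx.x1', ← mul_assoc] at b1
  have b1' : f (e2 + e3) * e3 = 0 := by
    have h3 : (x : R K V) * f (e2 + e3) * e3 * ((x⁻¹ : (R K V)ˣ) : R K V) = 0 * ((x⁻¹ : (R K V)ˣ) : R K V) := by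
      rw [b1, zero_mul]
    have := (Units.mul_left_inj x⁻¹).1 h3
    have h4 : (x : R K V) * (f (e2 + e3) * e3) = (x : R K V) * 0 := by
      rw [← mul_assoc, this, mul_zero]
    exact (Units.mul_right_inj x).1 h4
  have b2 := h1.1 e1 h.h11
  have b3 : f (e2 + e3) = 1 - f e1 := by rw [← (e_one h).2, f_sub hf, anti_one ha]
  rw [b3, sub_mul, one_mul, b2, sub_eq_zero] at b1'
  have c3 : f e2 = e2 := by
    have : e2 = 1 - e1 - e3 := by rw [← h.hs]; abel
    rw [this, f_sub hf, f_sub hf, anti_one ha, ← b1', ← a2, ← h.hs]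
    abel
  exact ⟨b1'.symm, c3, a2.symm⟩

omit h in
theorem hZ {x : (R K V)ˣ} (hx : Xu e1 e2 e3 x) {N : R K V} (hN3 : N * e3 = N) (h3N : e3 * N = 0) (hNN : -N * -N = 0) :
    ((x * un (-N) hNN : (R K V)ˣ) : R K V) * (e3 + N) * ((x * un (-N) hNN)⁻¹ : (R K V)ˣ) = e1 := by
  have hN2 : N * N = 0 := by rw [← neg_mul_neg, hNN]
  have hw : ((un (-N) hNN : (R K V)ˣ) : R K V) = 1 + -N := rfl
  rw [Units.mul_inv_eq_iff_eq_mul, Units.val_mul, mul_assoc (x : R K V), ← mul_assoc e1, hx.x1,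
    mul_assoc (x : R K V) e3]
  congr 1
  rw [hw]
  have : (1 + -N) * (e3 + N) = e3 + N - N * e3 - N * N := by noncomm_ring
  rw [this, hN3, hN2, mul_add, mul_one, mul_neg, h3N]
  abel

/-- step 2 for ring automorphisms -/
theorem step2 {x : (R K V)ˣ} (hx : Xu e1 e2 e3 x) {f : Equiv.Perm (R K V)} (hf : f ∈ RP K V)
    (hf3 : f e3 = e3) {N : R K V} (hN3 : N * e3 = N) (h3N : e3 * N = 0) (hNN : -N * -N = 0)
    (h1 : St e1 e3 (cj K V (x * un (-N) hNN) * f * (cj K V (x * un (-N) hNN))⁻¹)) : f N = N := by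
  have hw : ((un (-N) hNN : (R K V)ˣ) : R K V) = 1 + -N := rfl
  have a1 := h1.1 e1 h.h11
  have a0 := cj_conj (x * un (-N) hNN) f (e3 + N)
  rw [hZ hx hN3 h3N hNN] at a0
  rw [a0, ← mul_assoc, Units.mul_left_inj, ← mul_assoc, Units.val_mul, ← mul_assoc, hx.x1, mul_assoc, mul_assoc,
    mul_assoc, Units.mul_right_inj, hf.1, hf3, ← mul_assoc, hw] at a1
  have b1 : e3 * f N = 0 := by
    have := congrArg f h3N
    rwa [hf.2, hf3, add0 hf.1] at this
  have b2 : N * f N = 0 := by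
    have : N * e3 * f N = N * f N := by rw [hN3]
    rw [← this, mul_assoc, b1, mul_zero]
  have b3 : e3 * (1 + -N) * (e3 + f N) = e3 := by
    have : e3 * (1 + -N) * (e3 + f N) = (e3 - e3 * N) * (e3 + f N) := by noncomm_ring
    rw [this, h3N, sub_zero, mul_add, h.h33, b1, add_zero]
  have b4 : (1 + -N) * (e3 + f N) = e3 + f N - N * e3 - N * f N := by noncomm_ring
  rw [b3, b4, hN3, b2, sub_zero, add_sub_assoc, left_eq_add, sub_eq_zero] at a1
  exact a1

/-- step 2 for anti-automorphisms -/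
theorem step2' {x : (R K V)ˣ} (hx : Xu e1 e2 e3 x) {f : Equiv.Perm (R K V)} (hf : ∀ X Y, f (X + Y) = f X + f Y)
    (ha : ∀ X Y, f (X * Y) = f Y * f X) (hf2 : f e2 = e2)
    (hf3 : f e3 = e1) {N : R K V} (hN3 : N * e3 = N) (h3N : e3 * N = 0) (hNN : -N * -N = 0)
    (h1 : Co e1 e3 (cj K V (x * un (-N) hNN) * f * (cj K V (x * un (-N) hNN))⁻¹)) :
    f N = -(e1 * N) ∧ e2 * N = 0 := by
  have hwi : (((un (-N) hNN)⁻¹ : (R K V)ˣ) : R K V) = 1 - -N := rfl
  have a1 := h1.1 e1 h.h11
  have a0 := cj_conj (x * un (-N) hNN) f (e3 + N)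
  rw [hZ hx hN3 h3N hNN] at a0
  have b1 : f N * e1 = 0 := by
    have := congrArg f h3N
    rwa [ha, hf3, add0 hf] at this
  have b2 : N * e1 = 0 := by
    have : N * e3 * e1 = N * e1 := by rw [hN3]
    rw [← this, mul_assoc, h.h31, mul_zero]
  rw [a0, mul_assoc, mul_assoc, mul_assoc, Units.mul_right_inj, mul_inv_rev, Units.val_mul, mul_assoc, hx.x3',
    ← mul_assoc, ← mul_assoc, ← mul_assoc, Units.mul_left_inj, hf, hf3, hwi] at a1
  have b3 : (e1 + f N) * (1 - -N) * e1 = e1 := by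
    have : (e1 + f N) * (1 - -N) * e1 = e1 * e1 + f N * e1 + (e1 + f N) * (N * e1) := by noncomm_ring
    rw [this, b1, b2, h.h11, mul_zero, add_zero, add_zero]
  have hN2 : N * N = 0 := by rw [← neg_mul_neg, hNN]
  rw [b3] at a1
  have b4 : e1 * (1 - N) = (e1 + f N) * (1 - -N) * (1 - N) := by rw [← a1]
  have b5 : (e1 + f N) * (1 - -N) * (1 - N) = e1 + f N - (e1 + f N) * (N * N) := by noncomm_ring
  rw [b5, hN2, mul_zero, sub_zero, mul_sub, mul_one] at b4
  have b6 : f N = -(e1 * N) := by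
    rw [sub_eq_add_neg] at b4
    exact (add_left_cancel b4).symm
  refine ⟨b6, f.injective ?_⟩
  rw [ha, b6, hf2, add0 hf, neg_mul, mul_assoc]
  have : N * e2 = 0 := by
    have : N * e3 * e2 = N * e2 := by rw [hN3]
    rw [← this, mul_assoc, h.h32, mul_zero]
  rw [this, mul_zero, neg_zero]

end perm

section rigid

variable {K : Type u} [Field K] {V : Type v} [AddCommGroup V] [Module K V]

/-- coordinates `β i` on `A = range e1`, first basis vector `b0`, shift `Y` -/
structure Shift (e1 : R K V) (β : ℕ → V →ₗ[K] K) (b0 : V) (Y : R K V) : Prop where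
  hb0 : e1 b0 = b0
  h0 : β 0 b0 = 1
  h1Y : e1 * Y = Y
  hβ1 : ∀ i v, β i (e1 v) = β i v
  hβY : ∀ i v, β i (Y v) = β (i + 1) v
  hco : ∀ v, (∀ i, β i v = 0) → e1 v = 0
  hYb : Y b0 = 0

theorem exists_shift [Module.Finite K V] {e1 : R K V} (he : e1 * e1 = e1) (h0 : e1 ≠ 0) :
    ∃ (β : ℕ → V →ₗ[K] K) (b0 : V) (Y : R K V), Shift e1 β b0 Y ∧
      (2 ≤ Module.finrank K (LinearMap.range e1) → ∃ v, β 0 (Y v) ≠ 0) := by
  classical
  set A := LinearMap.range e1 with hA
  have he' : ∀ v, e1 (e1 v) = e1 v := fun v => LinearMap.congr_fun he v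
  have hA0 : A ≠ ⊥ := fun h => h0 (LinearMap.range_eq_bot.1 h)
  have : Nontrivial A := Submodule.nontrivial_iff_ne_bot.2 hA0
  have hn : 0 < Module.finrank K A := Module.finrank_pos
  let b := Module.finBasis K A
  let π : V →ₗ[K] A := e1.rangeRestrict
  have hπ : ∀ v, (π v : V) = e1 v := fun v => rfl
  have hA1 : ∀ a : A, e1 (a : V) = a := by
    rintro ⟨_, v, rfl⟩
    exact he' v
  have hπA : ∀ a : A, π (a : V) = a := fun a => Subtype.ext (hA1 a)
  let β : ℕ → V →ₗ[K] K := fun i => if h : i < Module.finrank K A then (b.coord ⟨i, h⟩) ∘ₗ π else 0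
  have hβ : ∀ (i : ℕ) (h : i < Module.finrank K A) (v : V), β i v = b.repr (π v) ⟨i, h⟩ := by
    intro i h v
    change (if h : i < Module.finrank K A then (b.coord ⟨i, h⟩) ∘ₗ π else 0 : V →ₗ[K] K) v = _
    rw [dif_pos h]
    rfl
  have hβ' : ∀ (i : ℕ) (h : ¬ i < Module.finrank K A) (v : V), β i v = 0 := by
    intro i h v
    change (if h : i < Module.finrank K A then (b.coord ⟨i, h⟩) ∘ₗ π else 0 : V →ₗ[K] K) v = _
    rw [dif_neg h]
    rfl
  have hβb : ∀ (i : ℕ) (j : Fin (Module.finrank K A)), β i (b j : V) = if i = j then 1 else 0 := by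
    intro i j
    by_cases h : i < Module.finrank K A
    · rw [hβ i h, hπA, b.repr_self, Finsupp.single_apply]
      by_cases hij : i = j
      · rw [if_pos hij, if_pos (Fin.ext hij.symm)]
      · rw [if_neg hij, if_neg (fun h' => hij (by rw [h']))]
    · rw [hβ' i h, if_neg]
      intro h'
      exact h (h' ▸ j.2)
  let Y : R K V := ∑ j : Fin (Module.finrank K A), (β (j + 1)).smulRight (b j : V)
  have hY : ∀ v, Y v = ∑ j : Fin (Module.finrank K A), β (j + 1) v • (b j : V) := by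
    intro v
    simp [Y, LinearMap.sum_apply]
  have hβY : ∀ i v, β i (Y v) = β (i + 1) v := by
    intro i v
    rw [hY, map_sum]
    by_cases h : i < Module.finrank K A
    · rw [Finset.sum_eq_single ⟨i, h⟩]
      · rw [map_smul, hβb, if_pos rfl, smul_eq_mul, mul_one]
      · intro j _ hj
        rw [map_smul, hβb, if_neg (fun h' => hj (Fin.ext h'.symm)), smul_zero]
      · intro h'
        exact absurd (Finset.mem_univ _) h'
    · rw [hβ' (i + 1) (fun h' => h (by omega))]
      refine Finset.sum_eq_zero fun j _ => ?_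
      rw [hβ' i h]
  refine ⟨β, b ⟨0, hn⟩, Y, ⟨hA1 _, ?_, ?_, ?_, hβY, ?_, ?_⟩, ?_⟩
  · rw [hβb, if_pos rfl]
  · ext v
    rw [Module.End.mul_apply, hY, map_sum]
    refine Finset.sum_congr rfl fun j _ => ?_
    rw [map_smul, hA1]
  · intro i v
    by_cases h : i < Module.finrank K A
    · rw [hβ i h, hβ i h]
      have : π (e1 v) = π v := Subtype.ext (he' v)
      rw [this]
    · rw [hβ' i h, hβ' i h]
  · intro v hv
    have : π v = 0 := by
      refine b.ext_elem fun i => ?_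
      rw [map_zero, Finsupp.zero_apply, ← hβ i.1 i.2]
      exact hv _
    rw [← hπ, this]
    rfl
  · rw [hY]
    refine Finset.sum_eq_zero fun j _ => ?_
    rw [hβb, if_neg (by simp), zero_smul]
  · intro h2
    refine ⟨b ⟨1, by omega⟩, ?_⟩
    rw [hβY, hβb, if_pos rfl]
    exact one_ne_zero

theorem rigid {e1 : R K V} {β : ℕ → V →ₗ[K] K} {b0 : V} {Y : R K V} (h : Shift e1 β b0 Y) (he : e1 * e1 = e1)
    {γ : K} (hγ0 : γ ≠ 0) (hγ : ∀ σ : K ≃+* K, σ γ = γ → ∀ a, σ a = a) {g : Equiv.Perm V} (hg : g ∈ Semi K V)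
    (hg1 : ∀ v, g (e1 v) = e1 (g v)) (hgX : ∀ v, g (β 0 v • γ • b0) = β 0 (g v) • γ • b0)
    (hgY : ∀ v, g (Y v) = Y (g v)) :
    (∀ (a : K) v, g (a • v) = a • g v) ∧ ∃ c : Kˣ, (∀ v, β 0 (g v) = c * β 0 v) ∧
      ∀ v, g (e1 v) = (c : K) • e1 v := by
  obtain ⟨hga, σ, hσ⟩ := hg
  have hg0 : g 0 = 0 := by
    have := hga 0 0
    rw [add_zero] at this
    exact left_eq_add.1 this
  have hb : b0 ≠ 0 := fun h0 => one_ne_zero (h.h0.symm.trans (by rw [h0, map_zero]))
  set c := β 0 (g b0) with hc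
  have a1 : σ γ • g b0 = c • γ • b0 := by
    have := hgX b0
    rwa [h.h0, one_smul, hσ] at this
  have hc0 : c ≠ 0 := by
    intro h0
    rw [h0, zero_smul, smul_eq_zero] at a1
    rcases a1 with a1 | a1
    · exact hγ0 (by simpa using a1)
    · exact hb (g.injective (a1.trans hg0.symm))
  have a2 : σ γ = γ := by
    have := congrArg (β 0) a1
    rw [map_smul, map_smul, map_smul, h.h0, ← hc, smul_eq_mul, smul_eq_mul, smul_eq_mul, mul_one, mul_comm] at this
    exact mul_left_cancel₀ hc0 this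
  have hσ1 := hγ σ a2
  have hgl : ∀ (a : K) v, g (a • v) = a • g v := fun a v => by rw [hσ, hσ1]
  have a3 : g b0 = c • b0 := by
    rw [a2, smul_comm] at a1
    exact smul_right_injective V hγ0 a1
  have a4 : ∀ i v, β i (g v) = c * β i v := by
    intro i
    induction i with
    | zero =>
      intro v
      have := congrArg (β 0) (hgX v)
      rw [hgl, hgl, a3, map_smul, map_smul, map_smul, map_smul, map_smul, h.h0] at this
      simp only [smul_eq_mul, mul_one] at this
      have h2 : γ * β 0 (g v) = γ * (c * β 0 v) := by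
        rw [mul_comm γ, ← this]
        ring
      exact mul_left_cancel₀ hγ0 h2
    | succ i ih =>
      intro v
      rw [← h.hβY, ← hgY, ih, h.hβY]
  refine ⟨hgl, Units.mk0 c hc0, a4 0, fun v => ?_⟩
  rw [← sub_eq_zero]
  have h2 := h.hco (g (e1 v) - c • e1 v) (fun i => by
    rw [map_sub, a4, map_smul, smul_eq_mul, sub_self])
  have he' : ∀ v, e1 (e1 v) = e1 v := fun v => LinearMap.congr_fun he v
  rw [map_sub, map_smul, ← hg1, he'] at h2
  exact h2

end rigid

section main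

variable {K : Type u} [Field K] {V : Type v} [AddCommGroup V] [Module K V]

theorem gen_rigid (K : Type u) [Field K] [Finite K] : ∃ γ : K, γ ≠ 0 ∧ ∀ σ : K ≃+* K, σ γ = γ → ∀ a, σ a = a := by
  obtain ⟨γ, hγ⟩ := IsCyclic.exists_generator (α := Kˣ)
  refine ⟨γ, γ.ne_zero, fun σ hσ a => ?_⟩
  by_cases ha : a = 0
  · rw [ha, map_zero]
  obtain ⟨k, hk⟩ := Subgroup.mem_zpowers_iff.1 (hγ (Units.mk0 a ha))
  have h1 : a = ((γ ^ k : Kˣ) : K) := by rw [hk]; rfl
  rw [h1, Units.val_zpow_eq_zpow_val, map_zpow₀, hσ]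

variable (J Y : R K V) (β : ℕ → V →ₗ[K] K) (b0 : V) (γ : K) (u : Fin 3 → V)

/-- the nilpotent elements `N_l = R_l + Q_l` -/
def Nl (e1 J Y : R K V) (β : ℕ → V →ₗ[K] K) (b0 : V) (γ : K) (u : Fin 3 → V) (i : Fin 3) : R K V :=
  (![e1, (β 0).smulRight (γ • b0), Y] i) * J + ((β 0) ∘ₗ J).smulRight (u i)

variable {e1 e2 e3 J L Y : R K V} {β : ℕ → V →ₗ[K] K} {b0 : V} {γ : K} {u : Fin 3 → V}

theorem Nl_e3 (h : Idm e1 e2 e3 J L) (i : Fin 3) : Nl e1 J Y β b0 γ u i * e3 = Nl e1 J Y β b0 γ u i := by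
  rw [Nl, add_mul, mul_assoc, h.hJ3]
  congr 1
  ext v
  change β 0 (J (e3 v)) • u i = β 0 (J v) • u i
  rw [← Module.End.mul_apply, h.hJ3]

theorem e1_Nl (h : Idm e1 e2 e3 J L) (hsh : Shift e1 β b0 Y) (hu : ∀ i, e2 (u i) = u i) (i : Fin 3) :
    e1 * Nl e1 J Y β b0 γ u i = (![e1, (β 0).smulRight (γ • b0), Y] i) * J := by
  have h1 : e1 * (![e1, (β 0).smulRight (γ • b0), Y] i) = ![e1, (β 0).smulRight (γ • b0), Y] i := by
    fin_cases i
    · exact h.h11
    · ext v
      change e1 (β 0 v • γ • b0) = β 0 v • γ • b0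
      rw [map_smul, map_smul, hsh.hb0]
    · exact hsh.h1Y
  have h2 : e1 * ((β 0) ∘ₗ J).smulRight (u i) = 0 := by
    ext v
    change e1 (β 0 (J v) • u i) = 0
    rw [map_smul, ← hu i, ← Module.End.mul_apply, h.h12, LinearMap.zero_apply, smul_zero]
  rw [Nl, mul_add, ← mul_assoc, h1, h2, add_zero]

theorem e2_Nl (h : Idm e1 e2 e3 J L) (hsh : Shift e1 β b0 Y) (hu : ∀ i, e2 (u i) = u i) (i : Fin 3) :
    e2 * Nl e1 J Y β b0 γ u i = ((β 0) ∘ₗ J).smulRight (u i) := by
  have h0 : e1 * (![e1, (β 0).smulRight (γ • b0), Y] i) = ![e1, (β 0).smulRight (γ • b0), Y] i := by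
    fin_cases i
    · exact h.h11
    · ext v
      change e1 (β 0 v • γ • b0) = β 0 v • γ • b0
      rw [map_smul, map_smul, hsh.hb0]
    · exact hsh.h1Y
  have h2 : e2 * ((β 0) ∘ₗ J).smulRight (u i) = ((β 0) ∘ₗ J).smulRight (u i) := by
    ext v
    change e2 (β 0 (J v) • u i) = β 0 (J v) • u i
    rw [map_smul, hu i]
  rw [Nl, mul_add, ← h0, ← mul_assoc, ← mul_assoc, h.h21, zero_mul, zero_mul, h2, zero_add]

theorem e3_Nl (h : Idm e1 e2 e3 J L) (hsh : Shift e1 β b0 Y) (hu : ∀ i, e2 (u i) = u i) (i : Fin 3) :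
    e3 * Nl e1 J Y β b0 γ u i = 0 := by
  have h1 : Nl e1 J Y β b0 γ u i = e1 * Nl e1 J Y β b0 γ u i + e2 * Nl e1 J Y β b0 γ u i := by
    rw [e1_Nl h hsh hu, e2_Nl h hsh hu, Nl]
  rw [h1, mul_add, ← mul_assoc, ← mul_assoc, h.h31, h.h32, zero_mul, add_zero]

theorem Nl_sq (h : Idm e1 e2 e3 J L) (hsh : Shift e1 β b0 Y) (hu : ∀ i, e2 (u i) = u i) (i : Fin 3) :
    -Nl e1 J Y β b0 γ u i * -Nl e1 J Y β b0 γ u i = 0 := by
  have h1 : Nl e1 J Y β b0 γ u i * Nl e1 J Y β b0 γ u i =
      Nl e1 J Y β b0 γ u i * e3 * Nl e1 J Y β b0 γ u i := by rw [Nl_e3 h]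
  rw [neg_mul_neg, h1, mul_assoc, e3_Nl h hsh hu, mul_zero]

theorem det_un [Finite K] {N : R K V} (h : N * N = 0) : LinearMap.det ((un N h : (R K V)ˣ) : R K V) = 1 :=
  det_one_add h

theorem five_flag [Finite K] (S : Subgroup (Equiv.Perm (R K V))) (hS : S ≤ RA K V)
    (hSN : ∀ f ∈ RP K V, ∃ g ∈ Semi K V, ∀ (X : R K V) (v : V), f X (g v) = g (X v))
    (h : Idm e1 e2 e3 J L) (hsh : Shift e1 β b0 Y)
    (hY2 : e2 = 0 → ∃ v, β 0 (Y v) ≠ 0)
    (hSt : ∀ f ∈ S, f ∈ RP K V → St e1 e3 f) (hCo : ∀ f ∈ S, f ∉ RP K V → Co e1 e3 f)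
    (hu : ∀ i, e2 (u i) = u i) (hu0 : e2 ≠ 0 → u 0 ≠ 0)
    (hbase : ∀ f ∈ S, f ∈ RP K V → ∀ g ∈ Semi K V, (∀ (X : R K V) (v : V), f X (g v) = g (X v)) →
      (∀ v, g (e1 v) = e1 (g v)) → (∀ v, g (e2 v) = e2 (g v)) → (∀ i, g (u i) = u i) → ∀ v, g (e2 v) = e2 v) :
    Five S := by
  obtain ⟨γ, hγ0, hγ⟩ := gen_rigid K
  let N : Fin 3 → R K V := Nl e1 J Y β b0 γ u
  have hNN : ∀ i, -N i * -N i = 0 := Nl_sq h hsh hu
  have hN3 : ∀ i, N i * e3 = N i := Nl_e3 h
  have h3N : ∀ i, e3 * N i = 0 := e3_Nl h hsh hu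
  have h1N : ∀ i, e1 * N i = (![e1, (β 0).smulRight (γ • b0), Y] i) * J := e1_Nl h hsh hu
  have h2N : ∀ i, e2 * N i = ((β 0) ∘ₗ J).smulRight (u i) := e2_Nl h hsh hu
  -- a vector with `ε = 1`
  have hε : β 0 (J (L b0)) = 1 := by
    rw [← Module.End.mul_apply, h.hJL, hsh.hb0, hsh.h0]
  refine ⟨Fin.cons h.x (fun i => h.x * un (-N i) (hNN i)), ?_, ?_⟩
  · have hx : LinearMap.det ((h.x : (R K V)ˣ) : R K V) = 1 := by
      rw [Idm.x, Units.val_mul, Units.val_mul, map_mul, map_mul, det_un, det_un, mul_one, mul_one]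
    intro i
    refine Fin.cases ?_ (fun i => ?_) i
    · exact hx
    · rw [Fin.cons_succ, Units.val_mul, map_mul, hx, det_un, mul_one]
  · intro f hf hi
    have hi0 : cj K V h.x * f * (cj K V h.x)⁻¹ ∈ S := hi 0
    have hi' : ∀ i, cj K V (h.x * un (-N i) (hNN i)) * f * (cj K V (h.x * un (-N i) (hNN i)))⁻¹ ∈ S :=
      fun i => hi i.succ
    by_cases hfP : f ∈ RP K V
    · obtain ⟨f1, f2, f3⟩ := step1 h h.xu hfP (hSt f hf hfP) (hSt _ hi0 (conj_RP _ hfP))
      have fN : ∀ i, f (N i) = N i := fun i =>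
        step2 h h.xu hfP f3 (hN3 i) (h3N i) (hNN i) (hSt _ (hi' i) (conj_RP _ hfP))
      obtain ⟨g, hg, hgf⟩ := hSN f hfP
      have hc : ∀ Z : R K V, f Z = Z → ∀ v, g (Z v) = Z (g v) := fun Z hZ v => by rw [← hgf, hZ]
      have g1 := hc e1 f1
      have g2 := hc e2 f2
      have g1N : ∀ i v, g ((![e1, (β 0).smulRight (γ • b0), Y] i) (J v)) =
          (![e1, (β 0).smulRight (γ • b0), Y] i) (J (g v)) := by
        intro i
        have := hc (e1 * N i) (by rw [hfP.2, f1, fN])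
        rwa [h1N] at this
      have gJ : ∀ v, g (J v) = J (g v) := by
        intro v
        have := g1N 0 v
        change g (e1 (J v)) = e1 (J (g v)) at this
        rwa [← Module.End.mul_apply e1, ← Module.End.mul_apply e1, h.h1J] at this
      have g1N' : ∀ i v, g ((![e1, (β 0).smulRight (γ • b0), Y] i) (e1 v)) =
          (![e1, (β 0).smulRight (γ • b0), Y] i) (e1 (g v)) := by
        intro i v
        have h6 : ∀ w, e1 w = J (L w) := fun w => by rw [← Module.End.mul_apply, h.hJL]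
        rw [← g1 v, h6 v, g1N, gJ]
      have hYe : ∀ v, Y (e1 v) = Y v := by
        intro v
        have h5 := hsh.hco (Y (e1 v) - Y v) (fun i => by
          rw [map_sub, hsh.hβY, hsh.hβY, hsh.hβ1, sub_self])
        have h6 : ∀ w, e1 (Y w) = Y w := fun w => LinearMap.congr_fun hsh.h1Y w
        rwa [map_sub, h6, h6, sub_eq_zero] at h5
      obtain ⟨hgl, c, hc0, hc1⟩ := rigid hsh h.h11 hγ0 hγ hg g1 (fun v => by
        have := g1N' 1 v
        change g (β 0 (e1 v) • γ • b0) = β 0 (e1 (g v)) • γ • b0 at this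
        rwa [hsh.hβ1, hsh.hβ1] at this) (fun v => by
        have := g1N' 2 v
        change g (Y (e1 v)) = Y (e1 (g v)) at this
        rwa [hYe, hYe] at this)
      have hc3 : ∀ v, g (e3 v) = (c : K) • e3 v := by
        intro v
        have h5 : J (g (e3 v)) = (c : K) • J (e3 v) := by
          rw [← gJ]
          have := hc1 (J (e3 v))
          rwa [← Module.End.mul_apply e1, h.h1J] at this
        have h6 := congrArg L h5
        rw [map_smul, ← Module.End.mul_apply, ← Module.End.mul_apply, h.hLJ, ← Module.End.mul_apply, h.h33,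
          ← hc e3 f3, ← Module.End.mul_apply, h.h33] at h6
        exact h6
      have hcu : ∀ i, g (u i) = (c : K) • u i := by
        intro i
        have h5 := hc (e2 * N i) (by rw [hfP.2, f2, fN]) (L b0)
        rw [h2N] at h5
        change g (β 0 (J (L b0)) • u i) = β 0 (J (g (L b0))) • u i at h5
        rwa [← gJ, hc0, hε, one_smul, mul_one] at h5
      -- normalize
      have hk : (hm K V c⁻¹ * g) ∈ Semi K V := by
        refine mul_mem ⟨fun v w => smul_add _ _ _, RingEquiv.refl K, fun a v => ?_⟩ hg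
        exact smul_comm _ _ _
      have hk0 : ∀ v, (hm K V c⁻¹ * g) v = ((c⁻¹ : Kˣ) : K) • g v := fun v => rfl
      have hcc : ((c⁻¹ : Kˣ) : K) * (c : K) = 1 := by rw [← Units.val_mul, inv_mul_cancel, Units.val_one]
      have hc2 : ∀ v, g (e2 v) = (c : K) • e2 v := by
        intro v
        have h5 := hbase f hf hfP _ hk (fun X v => by rw [hk0, hk0, map_smul, hgf])
          (fun v => by rw [hk0, hk0, map_smul, g1]) (fun v => by rw [hk0, hk0, map_smul, g2])
          (fun i => by rw [hk0, hcu, smul_smul, hcc, one_smul]) v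
        rw [hk0] at h5
        have h6 : (c : K) • e2 v = (c : K) • (((c⁻¹ : Kˣ) : K) • g (e2 v)) := by rw [h5]
        rw [h6, smul_smul, ← Units.val_mul, mul_inv_cancel, Units.val_one, one_smul]
      have hg' : ∀ v, g v = (c : K) • v := by
        intro v
        have h5 : v = e1 v + e2 v + e3 v := by
          have := LinearMap.congr_fun h.hs v
          exact this.symm
        have h6 : g v = g (e1 v + e2 v + e3 v) := by rw [← h5]
        rw [h6, hg.1, hg.1, hc1, hc2, hc3, ← smul_add, ← smul_add, ← h5]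
      refine Equiv.ext fun X => ?_
      change f X = X
      ext v
      have h5 := hgf X v
      rw [hg', hg', map_smul] at h5
      exact smul_right_injective V c.ne_zero h5
    · exfalso
      have ha := anti_mul hS hf hfP
      have h0 := (hS hf).1
      obtain ⟨f1, f2, f3⟩ := step1' h h.xu h0 ha (hCo f hf hfP) (hCo _ hi0 (conj_not _ hfP))
      have fN : ∀ i, f (N i) = -(e1 * N i) ∧ e2 * N i = 0 := fun i =>
        step2' h h.xu h0 ha f2 f3 (hN3 i) (h3N i) (hNN i) (hCo _ (hi' i) (conj_not _ hfP))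
      by_cases he2 : e2 = 0
      · have f0 : f 0 = 0 := add0 h0
        have hN : ∀ i, N i = (![e1, (β 0).smulRight (γ • b0), Y] i) * J := by
          intro i
          have h5 : N i = e1 * N i + e2 * N i + e3 * N i := by rw [← add_mul, ← add_mul, h.hs, one_mul]
          rw [h5, (fN i).2, h3N, add_zero, add_zero, h1N]
        have fR : ∀ i, f ((![e1, (β 0).smulRight (γ • b0), Y] i) * J) =
            -((![e1, (β 0).smulRight (γ • b0), Y] i) * J) := by
          intro i
          rw [← hN, (fN i).1, h1N, hN]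
        have fneg : ∀ Z, f (-Z) = -f Z := by
          intro Z
          rw [eq_neg_iff_add_eq_zero, ← h0, neg_add_cancel, f0]
        have fJ : f J = -J := by
          have := fR 0
          change f (e1 * J) = -(e1 * J) at this
          rwa [h.h1J] at this
        have fL : f L = -L := by
          have h5 : f L * f J = e3 := by rw [← ha, h.hJL, f1]
          have h6 : f L * e1 = f L := by rw [← f3, ← ha, h.h3L]
          rw [← h6, ← h.hJL, ← mul_assoc, ← neg_neg J, ← fJ, mul_neg, h5, neg_mul, h.h3L]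
        have fX := fR 1
        have fY := fR 2
        change f ((β 0).smulRight (γ • b0) * J) = -((β 0).smulRight (γ • b0) * J) at fX
        change f (Y * J) = -(Y * J) at fY
        have hX1 : (β 0).smulRight (γ • b0) * e1 = ((β 0).smulRight (γ • b0) : R K V) := by
          ext v
          change β 0 (e1 v) • γ • b0 = β 0 v • γ • b0
          rw [hsh.hβ1]
        have hYX : Y * (β 0).smulRight (γ • b0) = 0 := by
          ext v
          change Y (β 0 v • γ • b0) = 0
          rw [map_smul, map_smul, hsh.hYb, smul_zero, smul_zero]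
        have h5 : f ((β 0).smulRight (γ • b0) * J * L * (Y * J)) = 0 := by
          rw [ha ((β 0).smulRight (γ • b0) * J * L) (Y * J), ha ((β 0).smulRight (γ • b0) * J) L, fX, fY, fL]
          have : -(Y * J) * (-L * -((β 0).smulRight (γ • b0) * J)) =
              -(Y * (J * L) * (β 0).smulRight (γ • b0) * J) := by noncomm_ring
          rw [this, h.hJL, mul_assoc Y e1]
          have h6 : e1 * (β 0).smulRight (γ • b0) = ((β 0).smulRight (γ • b0) : R K V) := by
            ext v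
            change e1 (β 0 v • γ • b0) = β 0 v • γ • b0
            rw [map_smul, map_smul, hsh.hb0]
          rw [h6, hYX, zero_mul, neg_zero]
        have h7 : (β 0).smulRight (γ • b0) * J * L * (Y * J) = (0 : R K V) := f.injective (h5.trans f0.symm)
        rw [mul_assoc _ J L, h.hJL, hX1] at h7
        obtain ⟨v, hv⟩ := hY2 he2
        have h8 := LinearMap.congr_fun h7 (L v)
        change β 0 (Y (J (L v))) • γ • b0 = 0 at h8
        rw [← Module.End.mul_apply J, h.hJL, hsh.hβY, hsh.hβ1, ← hsh.hβY, smul_eq_zero, smul_eq_zero] at h8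
        rcases h8 with h8 | h8 | h8
        · exact hv h8
        · exact hγ0 h8
        · exact one_ne_zero (hsh.h0.symm.trans (by rw [h8, map_zero]))
      · have h5 := (fN 0).2
        rw [h2N] at h5
        have h6 := LinearMap.congr_fun h5 (L b0)
        change β 0 (J (L b0)) • u 0 = 0 at h6
        rw [hε, one_smul] at h6
        exact hu0 he2 h6

end main

end Cfsg.Agent.H923.FC
end

-- part: H10/FC/Semi
section
/-!
# S5764, COR-G4: completely reducible, reducible semilinear groups (helper10)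

`S` solvable, semilinear, containing the homotheties, preserving `V = A ⊕ B`, completely reducible on `B`, `dim A ≤ dim B`,
`dim V ≥ 3`: three graphs of maps `η_i : A → B` leave only the homotheties.
-/

set_option autoImplicit false

namespace Cfsg.Agent.H10.FC

open Cfsg.Agent.H198.FC Module

universe u v

section

variable {K : Type u} [Field K] {V : Type v} [AddCommGroup V] [Module K V]

theorem semi_zero {g : Equiv.Perm V} (hg : g ∈ Semi K V) : g 0 = 0 := by
  have h := hg.1 0 0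
  rw [add_zero] at h
  exact left_eq_add.1 h

theorem semi_sum {g : Equiv.Perm V} (hg : g ∈ Semi K V) {ι : Type*} (s : Finset ι) (f : ι → V) :
    g (∑ i ∈ s, f i) = ∑ i ∈ s, g (f i) := by
  classical
  induction s using Finset.induction_on with
  | empty => simp [semi_zero hg]
  | insert i s hi ih => rw [Finset.sum_insert hi, Finset.sum_insert hi, hg.1, ih]

theorem semi_neg {g : Equiv.Perm V} (hg : g ∈ Semi K V) (v : V) : g (-v) = - g v := by
  have h := hg.1 v (-v)
  rw [add_neg_cancel, semi_zero hg] at h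
  exact (neg_eq_of_add_eq_zero_right h.symm).symm

theorem semi_sub {g : Equiv.Perm V} (hg : g ∈ Semi K V) (v w : V) : g (v - w) = g v - g w := by
  rw [sub_eq_add_neg, hg.1, semi_neg hg, sub_eq_add_neg]

/-- restriction of a group of additive bijections to an invariant subspace -/
def resB (S : Subgroup (Equiv.Perm V)) (hS : S ≤ Semi K V) (B : Submodule K V) (hB : ∀ g ∈ S, ∀ v ∈ B, g v ∈ B) :
    S →* H578.AU B :=
  MonoidHom.toHomUnits
    { toFun := fun g =>
        { toFun := fun v => ⟨(g : Equiv.Perm V) v, hB g g.2 v v.2⟩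
          map_zero' := Subtype.ext (semi_zero (hS g.2))
          map_add' := fun v w => Subtype.ext ((hS g.2).1 v w) }
      map_one' := by
        apply AddMonoidHom.ext
        intro x
        rfl
      map_mul' := fun a b => by
        apply AddMonoidHom.ext
        intro x
        rfl }

theorem resB_apply {S : Subgroup (Equiv.Perm V)} (hS : S ≤ Semi K V) {B : Submodule K V} (hB : ∀ g ∈ S, ∀ v ∈ B, g v ∈ B)
    (g : S) (v : B) : (((resB S hS B hB g).1 v : B) : V) = (g : Equiv.Perm V) v := rfl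

theorem base_on [Finite K] [Module.Finite K V] {S : Subgroup (Equiv.Perm V)} (hS : S ≤ Semi K V)
    (hhm : ∀ a, hm K V a ∈ S) (hsol : Group.IsSolvable S) (B : Submodule K V) (hB : ∀ g ∈ S, ∀ v ∈ B, g v ∈ B)
    (hcr : ∀ U : Submodule K V, U ≤ B → (∀ g ∈ S, ∀ v ∈ U, g v ∈ U) →
      ∃ W : Submodule K V, W ≤ B ∧ (∀ g ∈ S, ∀ v ∈ W, g v ∈ W) ∧ U ⊓ W = ⊥ ∧ U ⊔ W = B) :
    ∃ b : Fin 3 → V, (∀ i, b i ∈ B) ∧ ∀ g ∈ S, (∀ i, g (b i) = b i) → ∀ v ∈ B, g v = v := by
  have : Finite V := Module.finite_of_finite K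
  obtain ⟨v, hv⟩ := H578.cr_base (Fin 3) (A := S) (fun W _ _ _ φ hirr =>
    H578.irr3 φ.range (Group.isSolvable_of_surjective (f := φ.rangeRestrict)
      φ.rangeRestrict_surjective) hirr) _ B (resB S hS B hB) rfl (by
    intro U hU
    have hU' : ∀ g ∈ S, ∀ v : B, v ∈ U → ∀ h : g (v : V) ∈ B, (⟨g v, h⟩ : B) ∈ U := by
      intro g hg v hvU h
      exact hU ⟨g, hg⟩ v hvU
    -- the submodule
    let U0 : Submodule K B :=
      { carrier := U
        add_mem' := fun h1 h2 => U.add_mem h1 h2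
        zero_mem' := U.zero_mem
        smul_mem' := by
          intro c x hx
          by_cases hc : c = 0
          · rw [hc, zero_smul]; exact U.zero_mem
          · exact hU' (hm K V (Units.mk0 c hc)) (hhm _) x hx (B.smul_mem c x.2) }
    obtain ⟨W, hWB, hW, h1, h2⟩ := hcr (U0.map B.subtype) (Submodule.map_subtype_le B U0) (by
      rintro g hg _ ⟨v, hv, rfl⟩
      exact ⟨⟨g v, hB g hg v v.2⟩, hU' g hg v hv _, rfl⟩)
    refine ⟨(W.comap B.subtype).toAddSubgroup, ?_, ?_, ?_⟩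
    · intro g w hw
      exact hW g g.2 w hw
    · rw [eq_bot_iff]
      rintro x ⟨hx1, hx2⟩
      have h3 : (x : V) ∈ U0.map B.subtype ⊓ W := ⟨⟨x, hx1, rfl⟩, hx2⟩
      rw [h1] at h3
      exact Subtype.ext h3
    · rw [eq_top_iff]
      intro x _
      have h3 : (x : V) ∈ U0.map B.subtype ⊔ W := by rw [h2]; exact x.2
      obtain ⟨_, ⟨y, hy, rfl⟩, z, hz, hyz⟩ := Submodule.mem_sup.1 h3
      refine AddSubgroup.mem_sup.2 ⟨y, hy, ⟨z, hWB hz⟩, hz, Subtype.ext hyz⟩)
  refine ⟨fun i => v i, fun i => (v i).2, ?_⟩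
  intro g hg hfix w hwB
  have h2 := hv ⟨g, hg⟩ (fun i => Subtype.ext (hfix i))
  rw [← resB_apply hS hB ⟨g, hg⟩ ⟨w, hwB⟩, h2]
  rfl

/-- intermediate subspaces -/
theorem exists_between [Module.Finite K V] {P B : Submodule K V} (hPB : P ≤ B) {a : ℕ} (h1 : finrank K P ≤ a)
    (h2 : a ≤ finrank K B) : ∃ D : Submodule K V, P ≤ D ∧ D ≤ B ∧ finrank K D = a := by
  obtain ⟨k, rfl⟩ := Nat.exists_eq_add_of_le h1
  clear h1
  induction k with
  | zero => exact ⟨P, le_rfl, hPB, rfl⟩
  | succ k ih =>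
    obtain ⟨D, hPD, hDB, hD⟩ := ih (by omega)
    have hne : ¬ B ≤ D := by
      intro h
      have := Submodule.finrank_mono h
      omega
    obtain ⟨v, hvB, hvD⟩ := SetLike.not_le_iff_exists.1 hne
    refine ⟨D ⊔ Submodule.span K {v}, hPD.trans le_sup_left, sup_le hDB ?_, ?_⟩
    · rw [Submodule.span_le, Set.singleton_subset_iff]
      exact hvB
    · rw [Submodule.finrank_sup_span_singleton hvD, hD]
      ring

/-- a field element moved by every non-trivial automorphism -/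
theorem exists_gen [Finite K] : ∃ γ : K, γ ≠ 0 ∧ ∀ σ : K ≃+* K, σ γ = γ → ∀ c, σ c = c := by
  obtain ⟨γ, hγ⟩ := IsCyclic.exists_generator (α := Kˣ)
  refine ⟨γ, γ.ne_zero, fun σ h c => ?_⟩
  by_cases hc : c = 0
  · rw [hc, map_zero]
  · obtain ⟨k, hk⟩ := Subgroup.mem_zpowers_iff.1 (hγ (Units.mk0 c hc))
    have h1 : c = ((γ ^ k : Kˣ) : K) := by rw [hk]; rfl
    rw [h1, Units.val_zpow_eq_zpow_val, map_zpow₀, h]

end

end Cfsg.Agent.H10.FC
end

-- part: H10/FC/Core
section
/-!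
# S5764, COR-G4: the three maps (helper10)
-/

set_option autoImplicit false

namespace Cfsg.Agent.H10.FC

open Cfsg.Agent.H198.FC Module

universe u v

section

variable {K : Type u} [Field K] {V : Type v} [AddCommGroup V] [Module K V]

theorem finish {S : Subgroup (Equiv.Perm V)} (hS : S ≤ Semi K V) (hhm : ∀ a, hm K V a ∈ S) {A B : Submodule K V}
    (hAB : IsCompl A B) (hB0 : B ≠ ⊥) {b : Fin 3 → V} (hbase : ∀ g ∈ S, (∀ i, g (b i) = b i) → ∀ v ∈ B, g v = v)
    {ι : Type*} [Fintype ι] (e : Basis ι K A) {g : Equiv.Perm V} (hg : g ∈ S) {c : K} (hc : c ≠ 0)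
    (h1 : ∀ i, g (b i) = c • b i) (h2 : ∀ j, g (e j : V) = c • (e j : V)) : ∃ a : Kˣ, g = hm K V a := by
  obtain ⟨hadd, σ, hσ⟩ := hS hg
  have h3 : ∀ v ∈ B, g v = c • v := by
    intro v hv
    have h := hbase ((hm K V (Units.mk0 c hc))⁻¹ * g) (S.mul_mem (S.inv_mem (hhm _)) hg) (fun i => by
      change (hm K V (Units.mk0 c hc)).symm (g (b i)) = b i
      rw [Equiv.symm_apply_eq, h1, hm_apply, Units.val_mk0]) v hv
    change (hm K V (Units.mk0 c hc)).symm (g v) = v at h
    rw [Equiv.symm_apply_eq, hm_apply, Units.val_mk0] at h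
    exact h
  obtain ⟨v0, hv0, hv0'⟩ := Submodule.exists_mem_ne_zero_of_ne_bot hB0
  have hσ1 : ∀ x, σ x = x := by
    intro x
    have h := hσ x v0
    rw [h3 _ (B.smul_mem x hv0), h3 _ hv0, smul_smul, smul_smul] at h
    have h' := smul_left_injective K hv0' h
    exact (mul_right_cancel₀ hc (by rw [← h', mul_comm])).symm
  have h4 : ∀ v ∈ A, g v = c • v := by
    intro v hv
    have e1 : v = ∑ j, (e.repr ⟨v, hv⟩ j) • (e j : V) := by
      have := congrArg (fun z : A => (z : V)) (e.sum_repr ⟨v, hv⟩)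
      simp only [Submodule.coe_sum, Submodule.coe_smul] at this
      exact this.symm
    rw [e1, semi_sum (hS hg), Finset.smul_sum]
    refine Finset.sum_congr rfl fun j _ => ?_
    rw [hσ, hσ1, h2, smul_comm]
  refine ⟨Units.mk0 c hc, ?_⟩
  ext v
  obtain ⟨x, hx, y, hy, rfl⟩ := Submodule.mem_sup.1 (show v ∈ A ⊔ B by rw [hAB.sup_eq_top]; trivial)
  rw [hadd, h4 x hx, h3 y hy, hm_apply, Units.val_mk0, smul_add]

theorem exists_eta [Finite K] [Module.Finite K V] {S : Subgroup (Equiv.Perm V)} (hS : S ≤ Semi K V)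
    (hhm : ∀ a, hm K V a ∈ S) (hsol : Group.IsSolvable S) {A B : Submodule K V} (hAB : IsCompl A B)
    (hA : ∀ g ∈ S, ∀ v ∈ A, g v ∈ A) (hB : ∀ g ∈ S, ∀ v ∈ B, g v ∈ B) (hA0 : A ≠ ⊥)
    (hab : finrank K A ≤ finrank K B)
    (hcr : ∀ U : Submodule K V, U ≤ B → (∀ g ∈ S, ∀ v ∈ U, g v ∈ U) →
      ∃ W : Submodule K V, W ≤ B ∧ (∀ g ∈ S, ∀ v ∈ W, g v ∈ W) ∧ U ⊓ W = ⊥ ∧ U ⊔ W = B) :
    ∃ η : Fin 3 → (A →ₗ[K] V), (∀ i v, η i v ∈ B) ∧
      ∀ g ∈ S, (∀ i, ∀ v w : A, g (v : V) = (w : V) → g (η i v) = η i w) → ∃ a : Kˣ, g = hm K V a := by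
  obtain ⟨b, hbB, hbase⟩ := base_on hS hhm hsol B hB hcr
  have ha0 : 0 < finrank K A := by
    rw [Nat.pos_iff_ne_zero]
    intro h
    exact hA0 (Submodule.finrank_eq_zero.1 h)
  have hB0 : B ≠ ⊥ := by
    intro h
    have := finrank_bot K V
    rw [h] at hab
    omega
  obtain ⟨m, hm⟩ : ∃ m, finrank K A = m + 1 := ⟨finrank K A - 1, by omega⟩
  let e : Basis (Fin (m + 1)) K A := finBasisOfFinrankEq K A hm
  have hinj : ∀ g ∈ S, ∀ j, g (e j : V) ≠ 0 := by
    intro g hg j h
    have h1 : g (e j : V) = g 0 := by rw [h, semi_zero (hS hg)]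
    exact e.ne_zero j (Subtype.ext (g.injective h1))
  -- the images of the basis
  have himg : ∀ g ∈ S, ∀ j, ∃ w : A, g (e j : V) = (w : V) := fun g hg j => ⟨⟨_, hA g hg _ (e j).2⟩, rfl⟩
  have hconstr : ∀ (f : Fin (m + 1) → V), (∀ j, f j ∈ B) → ∀ v, e.constr K f v ∈ B := by
    intro f hf v
    rw [Basis.constr_apply_fintype]
    exact B.sum_mem fun j _ => B.smul_mem _ (hf j)
  let P : Submodule K V := Submodule.span K (Set.range b)
  have hPB : P ≤ B := Submodule.span_le.2 (by rintro _ ⟨i, rfl⟩; exact hbB i)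
  have hP3 : finrank K P ≤ 3 := (finrank_range_le_card (R := K) b).trans (by simp)
  by_cases hm0 : m = 0
  · -- dimension one
    subst hm0
    refine ⟨fun i => e.constr K (fun _ => b i), fun i v => hconstr _ (fun _ => hbB i) v, ?_⟩
    intro g hg hη
    obtain ⟨w, hw⟩ := himg g hg 0
    have hw' : w = e.repr w 0 • e 0 := by
      conv_lhs => rw [← e.sum_repr w]
      simp
    have hc : e.repr w 0 ≠ 0 := by
      intro h
      rw [h, zero_smul] at hw'
      exact hinj g hg 0 (by rw [hw, hw']; rfl)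
    refine finish hS hhm hAB hB0 hbase e hg hc (fun i => ?_) (fun j => ?_)
    · have h := hη i (e 0) w hw
      rw [e.constr_basis] at h
      rw [h]
      conv_lhs => rw [hw']
      rw [map_smul, e.constr_basis]
    · obtain rfl : j = 0 := Fin.ext (by omega)
      rw [hw]
      conv_lhs => rw [hw']
      rfl
  by_cases hPa : finrank K P ≤ m + 1
  · -- `D`
    obtain ⟨D, hPD, hDB, hD⟩ := exists_between hPB hPa (by omega)
    let d : Basis (Fin (m + 1)) K D := finBasisOfFinrankEq K D hD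
    obtain ⟨γ, hγ0, hγ⟩ := exists_gen (K := K)
    let θ : A ≃ₗ[K] D := e.equiv d (Equiv.refl _)
    have hθ : ∀ j, θ (e j) = d j := fun j => by simp [θ]
    let η1 : A →ₗ[K] V := D.subtype ∘ₗ θ.toLinearMap
    have hη1 : ∀ j, η1 (e j) = (d j : V) := fun j => congrArg Subtype.val (hθ j)
    have hη1i : Function.Injective η1 := fun x y h => θ.injective (Subtype.ext h)
    let f2 : Fin (m + 1) → V := fun j => if j = 0 then γ • (d 0 : V) else 0
    let f3 : Fin (m + 1) → V := fun j => if h : j.val + 1 < m + 1 then (d ⟨j.val + 1, h⟩ : V) else 0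
    refine ⟨![η1, e.constr K f2, e.constr K f3], ?_, ?_⟩
    · intro i v
      fin_cases i
      · exact hDB (θ v).2
      · refine hconstr f2 (fun j => ?_) v
        simp only [f2]
        split_ifs
        · exact B.smul_mem _ (hDB (d 0).2)
        · exact B.zero_mem
      · refine hconstr f3 (fun j => ?_) v
        simp only [f3]
        split_ifs
        · exact hDB (d _).2
        · exact B.zero_mem
    · intro g hg hη
      obtain ⟨hadd, σ, hσ⟩ := hS hg
      have k1 : ∀ v w : A, g (v : V) = (w : V) → g (η1 v) = η1 w := hη 0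
      have k2 : ∀ v w : A, g (v : V) = (w : V) → g (e.constr K f2 v) = e.constr K f2 w := hη 1
      have k3 : ∀ v w : A, g (v : V) = (w : V) → g (e.constr K f3 v) = e.constr K f3 w := hη 2
      obtain ⟨w, hw⟩ := himg g hg 0
      have hw0 : w ≠ 0 := by
        intro h
        exact hinj g hg 0 (by rw [hw, h]; rfl)
      -- compare
      have e1 : σ γ • w = (e.repr w 0 * γ) • e 0 := by
        apply hη1i
        rw [map_smul, map_smul, ← k1 (e 0) w hw, hη1, ← hσ]
        have h := k2 (e 0) w hw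
        rw [e.constr_basis, Basis.constr_apply_fintype] at h
        simp only [f2, if_pos rfl] at h
        rw [h, Finset.sum_eq_single 0]
        · rw [if_pos rfl, Basis.equivFun_apply, smul_smul]
        · intro j _ hj
          rw [if_neg hj, smul_zero]
        · intro h; exact absurd (Finset.mem_univ _) h
      have hσγ : σ γ ≠ 0 := by
        rw [ne_eq, map_eq_zero_iff σ σ.injective]
        exact hγ0
      have hc : e.repr w 0 ≠ 0 := by
        intro h
        rw [h, zero_mul, zero_smul] at e1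
        exact hw0 ((smul_eq_zero.1 e1).resolve_left hσγ)
      have e2 : σ γ = γ := by
        have h := congrArg (fun z => e.repr z 0) e1
        simp only [map_smul, Finsupp.smul_apply, smul_eq_mul, Basis.repr_self, Finsupp.single_eq_same, mul_one] at h
        rw [mul_comm] at h
        exact mul_left_cancel₀ hc h
      have hσ1 := hγ σ e2
      have e3 : w = e.repr w 0 • e 0 := by
        rw [e2, mul_comm, mul_smul] at e1
        exact smul_right_injective A hγ0 e1
      set c := e.repr w 0 with hcdef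
      have key : ∀ (j : ℕ) (hj : j < m + 1), g (e ⟨j, hj⟩ : V) = c • (e ⟨j, hj⟩ : V) := by
        intro j
        induction j with
        | zero =>
          intro hj
          change g (e 0 : V) = c • (e 0 : V)
          rw [hw]
          conv_lhs => rw [e3]
          rfl
        | succ j ih =>
          intro hj
          have h1 := ih (by omega)
          obtain ⟨w', hw'⟩ := himg g hg ⟨j + 1, hj⟩
          have h2 := k3 (e ⟨j, by omega⟩) (c • e ⟨j, by omega⟩) h1
          rw [map_smul, e.constr_basis] at h2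
          have h3 : f3 ⟨j, by omega⟩ = (d ⟨j + 1, hj⟩ : V) := by
            simp only [f3]
            rw [dif_pos hj]
          rw [h3, ← hη1, k1 _ w' hw', ← map_smul] at h2
          rw [hw', hη1i h2]
          rfl
      have keyd : ∀ j, g (d j : V) = c • (d j : V) := by
        intro j
        have h1 := k1 (e j) (c • e j) (key j.val j.isLt)
        rw [map_smul, hη1] at h1
        exact h1
      refine finish hS hhm hAB hB0 hbase e hg hc (fun i => ?_) (fun j => key j.val j.isLt)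
      have hbD : b i ∈ D := hPD (Submodule.subset_span ⟨i, rfl⟩)
      have e4 : b i = ∑ j, (d.repr ⟨b i, hbD⟩ j) • (d j : V) := by
        have := congrArg (fun z : D => (z : V)) (d.sum_repr ⟨b i, hbD⟩)
        simp only [Submodule.coe_sum, Submodule.coe_smul] at this
        exact this.symm
      rw [e4, semi_sum (hS hg), Finset.smul_sum]
      refine Finset.sum_congr rfl fun j _ => ?_
      rw [hσ, hσ1, keyd, smul_comm]
  · -- dimension two, independent base
    obtain rfl : m = 1 := by omega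
    have hP : finrank K P = 3 := by omega
    have hli : LinearIndependent K b := by
      rw [linearIndependent_iff_card_eq_finrank_span]
      change Fintype.card (Fin 3) = finrank K P
      rw [hP]
      rfl
    refine ⟨![e.constr K ![b 0, b 1], e.constr K ![b 1, b 2], 0], ?_, ?_⟩
    · intro i v
      fin_cases i
      · exact hconstr _ (fun j => by fin_cases j <;> exact hbB _) v
      · exact hconstr _ (fun j => by fin_cases j <;> exact hbB _) v
      · exact B.zero_mem
    · intro g hg hη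
      have k1 : ∀ v w : A, g (v : V) = (w : V) → g (e.constr K ![b 0, b 1] v) = e.constr K ![b 0, b 1] w := hη 0
      have k2 : ∀ v w : A, g (v : V) = (w : V) → g (e.constr K ![b 1, b 2] v) = e.constr K ![b 1, b 2] w := hη 1
      obtain ⟨w0, hw0⟩ := himg g hg 0
      obtain ⟨w1, hw1⟩ := himg g hg 1
      have e0 : w0 = e.repr w0 0 • e 0 + e.repr w0 1 • e 1 := by
        have h := e.sum_repr w0
        rw [Fin.sum_univ_two] at h
        exact h.symm
      have e1 : w1 = e.repr w1 0 • e 0 + e.repr w1 1 • e 1 := by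
        have h := e.sum_repr w1
        rw [Fin.sum_univ_two] at h
        exact h.symm
      have a1 : g (b 0) = e.repr w0 0 • b 0 + e.repr w0 1 • b 1 := by
        have h := k1 (e 0) w0 hw0
        rw [e.constr_basis, Basis.constr_apply_fintype, Fin.sum_univ_two] at h
        exact h
      have a2 : g (b 1) = e.repr w1 0 • b 0 + e.repr w1 1 • b 1 := by
        have h := k1 (e 1) w1 hw1
        rw [e.constr_basis, Basis.constr_apply_fintype, Fin.sum_univ_two] at h
        exact h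
      have a3 : g (b 1) = e.repr w0 0 • b 1 + e.repr w0 1 • b 2 := by
        have h := k2 (e 0) w0 hw0
        rw [e.constr_basis, Basis.constr_apply_fintype, Fin.sum_univ_two] at h
        exact h
      have a4 : g (b 2) = e.repr w1 0 • b 1 + e.repr w1 1 • b 2 := by
        have h := k2 (e 1) w1 hw1
        rw [e.constr_basis, Basis.constr_apply_fintype, Fin.sum_univ_two] at h
        exact h
      have h5 : (∑ i, (![e.repr w1 0, e.repr w1 1 - e.repr w0 0, - e.repr w0 1] i) • b i) = 0 := by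
        rw [Fin.sum_univ_three]
        have h := a2.symm.trans a3
        simp only [Matrix.cons_val_zero, Matrix.cons_val_one, Matrix.cons_val_two, Matrix.head_cons, Matrix.tail_cons, Matrix.cons_val]
        rw [sub_smul, neg_smul]
        rw [← sub_eq_zero] at h
        rw [← h]
        abel
      have h6 := Fintype.linearIndependent_iff.1 hli _ h5
      have c0 : e.repr w1 0 = 0 := h6 0
      have c1 : e.repr w1 1 - e.repr w0 0 = 0 := h6 1
      have c2 : - e.repr w0 1 = 0 := h6 2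
      rw [neg_eq_zero] at c2
      rw [sub_eq_zero] at c1
      rw [c2, zero_smul, add_zero] at e0 a1
      rw [c0, zero_smul, zero_add, c1] at e1 a2 a4
      have hc : e.repr w0 0 ≠ 0 := by
        intro h
        rw [h, zero_smul] at e0
        exact hinj g hg 0 (by rw [hw0, e0]; rfl)
      refine finish hS hhm hAB hB0 hbase e hg hc (fun i => ?_) (fun j => ?_)
      · fin_cases i
        · exact a1
        · exact a2
        · exact a4
      · fin_cases j
        · change g (e 0 : V) = _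
          rw [hw0]
          conv_lhs => rw [e0]
          rfl
        · change g (e 1 : V) = _
          rw [hw1]
          conv_lhs => rw [e1]
          rfl

end

end Cfsg.Agent.H10.FC
end

-- part: H10/FC/Main
section
/-!
# S5764, COR-G4 (helper10)

`corG4` : `S ≤ RA`, solvable, `dim V ≥ 3`, `S ∩ RP` reducible and completely reducible: `Five S` (given L-T3, L-SN, L-BR).
-/

set_option autoImplicit false

namespace Cfsg.Agent.H10.FC

open Cfsg.Agent.H198.FC Module

universe u v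

/-- L-T3 -/
def StT3 : Prop :=
  ∀ (K : Type u) [Field K] [Finite K] (V : Type v) [AddCommGroup V] [Module K V] [Module.Finite K V]
    (S : Subgroup (Equiv.Perm (R K V))), S ≤ RA K V → 3 ≤ finrank K V → Group.IsSolvable S →
    (∃ x : Fin 3 → (R K V)ˣ, (∀ i, LinearMap.det ((x i : (R K V)ˣ) : R K V) = 1) ∧
      ∀ f ∈ S, f ∈ RP K V → (∀ i, cj K V (x i) * f * (cj K V (x i))⁻¹ ∈ S) → f = 1) → Five S

section

variable {K : Type u} [Field K] {V : Type v} [AddCommGroup V] [Module K V]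

/-- a unit of `R` as a permutation of `V` -/
def up (x : (R K V)ˣ) : Equiv.Perm V where
  toFun v := (x : R K V) v
  invFun v := ((x⁻¹ : (R K V)ˣ) : R K V) v
  left_inv v := by
    change (((x⁻¹ : (R K V)ˣ) : R K V) * (x : R K V)) v = v
    rw [Units.inv_mul]
    rfl
  right_inv v := by
    change ((x : R K V) * ((x⁻¹ : (R K V)ˣ) : R K V)) v = v
    rw [Units.mul_inv]
    rfl

theorem up_apply (x : (R K V)ˣ) (v : V) : up x v = (x : R K V) v := rfl

theorem up_symm_apply (x : (R K V)ˣ) (v : V) : (up x).symm v = ((x⁻¹ : (R K V)ˣ) : R K V) v := rfl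

theorem up_mem (x : (R K V)ˣ) : up x ∈ Semi K V := by
  refine ⟨fun v w => ?_, RingEquiv.refl K, fun a v => ?_⟩
  · rw [up_apply, map_add]; rfl
  · rw [up_apply, map_smul]; rfl

theorem up_mul_inv_conj {f : Equiv.Perm (R K V)} {g : Equiv.Perm V} (h : ∀ (X : R K V) (v : V), f X (g v) = g (X v))
    (x : (R K V)ˣ) (X : R K V) (v : V) :
    (cj K V x * f * (cj K V x)⁻¹) X ((up x * g * (up x)⁻¹) v) = (up x * g * (up x)⁻¹) (X v) := by
  have e1 : (cj K V x)⁻¹ X = (x⁻¹ : (R K V)ˣ) * X * x := by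
    rw [← map_inv, cj_apply, inv_inv]
  have e2 : (cj K V x * f * (cj K V x)⁻¹) X = (x : R K V) * f (((x⁻¹ : (R K V)ˣ) : R K V) * X * x) * ((x⁻¹ : (R K V)ˣ) : R K V) := by
    change cj K V x (f ((cj K V x)⁻¹ X)) = _
    rw [e1, cj_apply]
  have e3 : ∀ w, (up x * g * (up x)⁻¹) w = (x : R K V) (g (((x⁻¹ : (R K V)ˣ) : R K V) w)) := fun w => rfl
  rw [e2, e3, e3]
  change (x : R K V) (f (((x⁻¹ : (R K V)ˣ) : R K V) * X * x) ((((x⁻¹ : (R K V)ˣ) : R K V) * (x : R K V)) _)) = _
  rw [Units.inv_mul]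
  change (x : R K V) (f (((x⁻¹ : (R K V)ˣ) : R K V) * X * x) (g _)) = _
  rw [h]
  change (x : R K V) (g (((x⁻¹ : (R K V)ˣ) : R K V) (X (((x : R K V) * ((x⁻¹ : (R K V)ˣ) : R K V)) v)))) = _
  rw [Units.mul_inv]
  rfl

/-- three conjugates kill a completely reducible, reducible group -/
theorem three_semi [Finite K] [Module.Finite K V] (hn : 1 ≤ finrank K V) {S : Subgroup (Equiv.Perm V)} (hS : S ≤ Semi K V)
    (hhm : ∀ a, hm K V a ∈ S) (hsol : Group.IsSolvable S) {A B : Submodule K V} (hAB : IsCompl A B)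
    (hA : ∀ g ∈ S, ∀ v ∈ A, g v ∈ A) (hB : ∀ g ∈ S, ∀ v ∈ B, g v ∈ B) (hA0 : A ≠ ⊥)
    (hab : finrank K A ≤ finrank K B)
    (hcr : ∀ U : Submodule K V, U ≤ B → (∀ g ∈ S, ∀ v ∈ U, g v ∈ U) →
      ∃ W : Submodule K V, W ≤ B ∧ (∀ g ∈ S, ∀ v ∈ W, g v ∈ W) ∧ U ⊓ W = ⊥ ∧ U ⊔ W = B) :
    ∃ x : Fin 3 → (R K V)ˣ, (∀ i, LinearMap.det ((x i : (R K V)ˣ) : R K V) = 1) ∧
      ∀ g ∈ S, (∀ i, up (x i) * g * (up (x i))⁻¹ ∈ S) → ∃ a : Kˣ, g = hm K V a := by
  obtain ⟨η, hηB, hη⟩ := exists_eta hS hhm hsol hAB hA hB hA0 hab hcr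
  obtain ⟨p, hp⟩ := CharP.exists K
  have hpp : Fact p.Prime := ⟨CharP.char_is_prime K p⟩
  have hnt : Nontrivial V := Module.finrank_pos_iff.1 (by omega : 0 < finrank K V)
  let N : Fin 3 → R K V := fun i => η i ∘ₗ A.projectionOnto B hAB
  have hNA : ∀ i (v : A), N i (v : V) = η i v := by
    intro i v
    change η i (A.projectionOnto B hAB (v : V)) = _
    rw [Submodule.projectionOnto_apply_left]
  have hNB : ∀ i, ∀ v ∈ B, N i v = 0 := by
    intro i v hv
    change η i (A.projectionOnto B hAB v) = 0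
    rw [Submodule.projectionOnto_apply_of_mem_right hAB hv, map_zero]
  have hNN : ∀ i, N i * N i = 0 := by
    intro i
    ext v
    exact hNB i _ (hηB i _)
  have hx : ∀ i, ∃ x : (R K V)ˣ, (x : R K V) = 1 + N i ∧ LinearMap.det (x : R K V) = 1 := by
    intro i
    obtain ⟨x, h1, h2, -⟩ := H466.FC.exists_uni (K := K) (V := V) (p := p) (N := N i) ⟨2, by rw [pow_two]; exact hNN i⟩
    exact ⟨x, h1, h2⟩
  choose x hx1 hx2 using hx
  have hxi : ∀ i, ((x i)⁻¹ : (R K V)ˣ) = ((1 : R K V) - N i) := by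
    intro i
    have h1 : (x i : R K V) * (1 - N i) = 1 := by
      rw [hx1, mul_sub, mul_one, add_mul, one_mul, hNN, add_zero]
      abel
    exact Units.inv_eq_of_mul_eq_one_right h1
  refine ⟨x, hx2, ?_⟩
  intro g hg hgx
  refine hη g hg ?_
  intro i v w hvw
  have h1 := hA _ (hgx i) v v.2
  have h2 : (up (x i) * g * (up (x i))⁻¹) (v : V) = (w : V) + (η i w - g (η i v)) := by
    change (x i : R K V) (g ((((x i)⁻¹ : (R K V)ˣ) : R K V) (v : V))) = _
    rw [hxi, hx1]
    change g ((v : V) - N i v) + N i (g ((v : V) - N i v)) = _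
    rw [hNA, semi_sub (hS hg), hvw, map_sub, hNA, hNB i _ (hB g hg _ (hηB i v))]
    abel
  rw [h2] at h1
  have h3 : η i w - g (η i v) ∈ A := by
    have := A.sub_mem h1 w.2
    rwa [add_sub_cancel_left] at this
  have h4 : η i w - g (η i v) ∈ B := B.sub_mem (hηB i w) (hB g hg _ (hηB i v))
  have h5 : η i w - g (η i v) ∈ A ⊓ B := ⟨h3, h4⟩
  rw [hAB.inf_eq_bot] at h5
  have h6 : η i w - g (η i v) = 0 := h5
  exact (sub_eq_zero.1 h6).symm

end

/-- **COR-G4** -/
theorem corG4 (hT3 : StT3.{u, v}) (hSN : StmtSN.{u, v}) (hBr : StmtBridge.{u, v})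
    (K : Type u) [Field K] [Finite K] (V : Type v) [AddCommGroup V] [Module K V] [Module.Finite K V]
    (S : Subgroup (Equiv.Perm (R K V))) (hS : S ≤ RA K V) (hn : 3 ≤ finrank K V) (hsol : Group.IsSolvable S)
    (hred : ∃ W : Submodule K V, W ≠ ⊥ ∧ W ≠ ⊤ ∧ ∀ f ∈ S, f ∈ RP K V → Stb f W)
    (hcr : ∀ W : Submodule K V, (∀ f ∈ S, f ∈ RP K V → Stb f W) →
      ∃ W' : Submodule K V, (∀ f ∈ S, f ∈ RP K V → Stb f W') ∧ IsCompl W W') : Five S := by
  have hsol0 : Group.IsSolvable (S ⊓ RP K V : Subgroup (Equiv.Perm (R K V))) :=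
    Group.isSolvable_of_isSolvable_injective (f := Subgroup.inclusion (inf_le_left : S ⊓ RP K V ≤ S))
      (Subgroup.inclusion_injective _)
  obtain ⟨S', hS', hhm, hsol', hiff, hinv, -⟩ := hBr K V (by omega) (S ⊓ RP K V) inf_le_right hsol0
  have hst : ∀ W : Submodule K V, (∀ f ∈ S, f ∈ RP K V → Stb f W) → ∀ g ∈ S', ∀ w ∈ W, g w ∈ W :=
    fun W hW => hinv W (fun f hf => hW f hf.1 hf.2)
  have hst' : ∀ W : Submodule K V, (∀ g ∈ S', ∀ w ∈ W, g w ∈ W) → ∀ f ∈ S, f ∈ RP K V → Stb f W := by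
    intro W hW f hf hfP X hX v
    obtain ⟨g, hg, hfg⟩ := hSN K V (by omega) f hfP
    have hg' : g ∈ S' := (hiff g hg).2 ⟨f, ⟨hf, hfP⟩, hfg⟩
    have h := hfg X (g.symm v)
    rw [Equiv.apply_symm_apply] at h
    rw [h]
    exact hW g hg' _ (hX _)
  have hcr' : ∀ B U : Submodule K V, (∀ g ∈ S', ∀ w ∈ B, g w ∈ B) → U ≤ B → (∀ g ∈ S', ∀ v ∈ U, g v ∈ U) →
      ∃ W : Submodule K V, W ≤ B ∧ (∀ g ∈ S', ∀ v ∈ W, g v ∈ W) ∧ U ⊓ W = ⊥ ∧ U ⊔ W = B := by
    intro B U hB hUB hU
    obtain ⟨U', hU', hUU⟩ := hcr U (hst' U hU)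
    refine ⟨U' ⊓ B, inf_le_right, fun g hg v hv => ⟨hst U' hU' g hg v hv.1, hB g hg v hv.2⟩, ?_, ?_⟩
    · rw [← inf_assoc, hUU.inf_eq_bot, bot_inf_eq]
    · rw [← sup_inf_assoc_of_le U' hUB, hUU.sup_eq_top, top_inf_eq]
  -- the decomposition
  obtain ⟨A, B, hAB, hA, hB, hA0, hab⟩ : ∃ A B : Submodule K V, IsCompl A B ∧ (∀ g ∈ S', ∀ w ∈ A, g w ∈ A) ∧
      (∀ g ∈ S', ∀ w ∈ B, g w ∈ B) ∧ A ≠ ⊥ ∧ finrank K A ≤ finrank K B := by
    obtain ⟨W, hW0, hW1, hW⟩ := hred
    obtain ⟨W', hW', hWW⟩ := hcr W hW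
    have hW0' : W' ≠ ⊥ := by
      intro h
      apply hW1
      have := hWW.sup_eq_top
      rwa [h, sup_bot_eq] at this
    rcases le_total (finrank K W) (finrank K W') with h | h
    · exact ⟨W, W', hWW, hst W hW, hst W' hW', hW0, h⟩
    · exact ⟨W', W, hWW.symm, hst W' hW', hst W hW, hW0', h⟩
  obtain ⟨x, hx1, hx2⟩ := three_semi (by omega) hS' hhm hsol' hAB hA hB hA0 hab (fun U hU hU' => hcr' B U hB hU hU')
  refine hT3 K V S hS hn hsol ⟨x, hx1, ?_⟩
  intro f hf hfP hfx
  obtain ⟨g, hg, hfg⟩ := hSN K V (by omega) f hfP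
  have hg' : g ∈ S' := (hiff g hg).2 ⟨f, ⟨hf, hfP⟩, hfg⟩
  obtain ⟨a, ha⟩ := hx2 g hg' (fun i => by
    refine (hiff _ ?_).2 ⟨cj K V (x i) * f * (cj K V (x i))⁻¹, ⟨hfx i, ?_⟩, up_mul_inv_conj hfg (x i)⟩
    · exact (Semi K V).mul_mem ((Semi K V).mul_mem (up_mem _) hg) ((Semi K V).inv_mem (up_mem _))
    · exact (RP K V).mul_mem ((RP K V).mul_mem (cj_mem_RP _) hfP) ((RP K V).inv_mem (cj_mem_RP _)))
  subst ha
  apply Equiv.ext
  intro X
  apply LinearMap.ext
  intro v
  have h := hfg X v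
  rw [hm_apply, hm_apply, map_smul] at h
  have h2 := congrArg (fun z => ((a⁻¹ : Kˣ) : K) • z) h
  simp only [smul_smul, Units.inv_mul, one_smul] at h2
  exact h2

end Cfsg.Agent.H10.FC
end

-- part: H10/FC/Fin
section
/-!
# S5764, COR-G4, hypothesis-free version (helper10)
-/

set_option autoImplicit false

namespace Cfsg.Agent.H10.FC

open Cfsg.Agent.H198.FC

universe u v

/-- the form asked for by helper923 -/
theorem stmtG4 {K : Type u} [Field K] [Finite K] {V : Type v} [AddCommGroup V] [Module K V] [Module.Finite K V]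
    (S : Subgroup (Equiv.Perm (R K V))) (hS : S ≤ RA K V) (h3 : 3 ≤ Module.finrank K V) (hsol : Group.IsSolvable S)
    (hred : ∃ W : Submodule K V, W ≠ ⊥ ∧ W ≠ ⊤ ∧ ∀ f ∈ S, f ∈ RP K V → Stb f W)
    (hcr : ∀ W : Submodule K V, (∀ f ∈ S, f ∈ RP K V → Stb f W) →
      ∃ W' : Submodule K V, (∀ f ∈ S, f ∈ RP K V → Stb f W') ∧ W ⊓ W' = ⊥ ∧ W ⊔ W' = ⊤) : Five S :=
  corG4 (fun _ _ _ _ _ _ _ S hS h3 hsol ⟨x, hx, hf⟩ =>
      H55.FC.five_of_three h3 S hS hsol x hx (fun f hfS hfx => hf f hfS.1 hfS.2 hfx))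
    H277.FC.stmtSN (H200.FC.stmtBridge_of H277.FC.stmtSN) K V S hS h3 hsol hred
    (fun W hW => by
      obtain ⟨W', h1, h2, h3⟩ := hcr W hW
      exact ⟨W', h1, IsCompl.of_eq h2 h3⟩)

end Cfsg.Agent.H10.FC
end

-- part: H923/FC/RedCor
section
/-!
# S5764, reducible subgroups with a correlation (helper923)
-/

set_option autoImplicit false

namespace Cfsg.Agent.H923.FC

open Cfsg.Agent.H198.FC

universe u v

section dim

variable {K : Type u} [Field K] {V : Type v} [AddCommGroup V] [Module K V]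

/-- `star f W` in terms of the correlation `g` -/
theorem mem_star_iff [Nontrivial V] {f : Equiv.Perm (R K V)} {g : V ≃+ Module.Dual K V}
    (hg : ∀ (X : R K V) (v w : V), g (X v) w = g v (f X w)) (W : Submodule K V) (w : V) :
    w ∈ star f W ↔ ∀ u ∈ W, g u w = 0 := by
  constructor
  · intro h u hu
    obtain ⟨v, hv⟩ := exists_ne (0 : V)
    obtain ⟨φ, hφ⟩ := Cfsg.Agent.H277.FC.exists_dual_one (K := K) hv
    have h1 := h (φ.smulRight u) (fun v => W.smul_mem _ hu)
    have h2 := hg (φ.smulRight u) v w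
    rw [h1, map_zero] at h2
    change g (φ v • u) w = 0 at h2
    rwa [hφ, one_smul] at h2
  · intro h X hX
    rw [← Module.forall_dual_apply_eq_zero_iff K]
    intro φ
    obtain ⟨v, rfl⟩ := g.surjective φ
    rw [← hg]
    exact h _ (hX v)

theorem finrank_star [Finite K] [Module.Finite K V] [Nontrivial V] {f : Equiv.Perm (R K V)} {σ : K ≃+* K}
    {g : V ≃+ Module.Dual K V} (hσ : ∀ (a : K) (v : V), g (a • v) = σ a • g v)
    (hg : ∀ (X : R K V) (v w : V), g (X v) w = g v (f X w)) (W : Submodule K V) :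
    Module.finrank K (star f W) + Module.finrank K W = Module.finrank K V := by
  let W' : Submodule K (Module.Dual K V) :=
    { carrier := {φ | g.symm φ ∈ W}
      zero_mem' := by
        change g.symm 0 ∈ W
        rw [map_zero]
        exact W.zero_mem
      add_mem' := by
        intro a b ha hb
        change g.symm (a + b) ∈ W
        rw [map_add]
        exact W.add_mem ha hb
      smul_mem' := by
        intro c φ hφ
        change g.symm (c • φ) ∈ W
        have : g.symm (c • φ) = σ.symm c • g.symm φ := by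
          apply g.injective
          rw [hσ]
          simp
        rw [this]
        exact W.smul_mem _ hφ }
  have h1 : star f W = W'.dualCoannihilator := by
    ext w
    rw [mem_star_iff hg, Submodule.mem_dualCoannihilator]
    constructor
    · intro h φ hφ
      have := h (g.symm φ) hφ
      rwa [g.apply_symm_apply] at this
    · intro h u hu
      refine h (g u) ?_
      change g.symm (g u) ∈ W
      rwa [g.symm_apply_apply]
  have h2 : Module.finrank K W' = Module.finrank K W := by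
    have e : W' ≃ W :=
      { toFun := fun φ => ⟨g.symm φ.1, φ.2⟩
        invFun := fun w => ⟨g w.1, by
          change g.symm (g w.1) ∈ W
          rw [g.symm_apply_apply]
          exact w.2⟩
        left_inv := fun φ => Subtype.ext (g.apply_symm_apply _)
        right_inv := fun w => Subtype.ext (g.symm_apply_apply _) }
    have h3 := Nat.card_congr e
    have : Finite V := Module.finite_of_finite K
    rw [Module.natCard_eq_pow_finrank (K := K), Module.natCard_eq_pow_finrank (K := K) (V := W)] at h3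
    exact Nat.pow_right_injective (Finite.one_lt_card_iff_nontrivial.2 inferInstance) h3
  rw [h1, ← h2, add_comm]
  exact Subspace.finrank_add_finrank_dualCoannihilator_eq W'

theorem exists_idm [Module.Finite K V] (A B : Submodule K V) (hAB : A ≤ B)
    (hdim : Module.finrank K A + Module.finrank K B = Module.finrank K V) :
    ∃ e1 e2 e3 J L : R K V, Idm e1 e2 e3 J L ∧ (∀ v, e1 v ∈ A) ∧ (∀ v ∈ A, e1 v = v) ∧ (∀ v, e3 v = 0 ↔ v ∈ B) := by
  obtain ⟨q, hq, hq'⟩ := exists_proj B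
  obtain ⟨p, hp, hp'⟩ := exists_proj A
  have hqp : q * p = p := LinearMap.ext fun v => hq' _ (hAB (hp v))
  have hpp : p * p = p := LinearMap.ext fun v => hp' _ (hp v)
  have hqq : q * q = q := LinearMap.ext fun v => hq' _ (hq v)
  have h3 : ∀ v, (1 - q) v = 0 ↔ v ∈ B := by
    intro v
    rw [LinearMap.sub_apply, Module.End.one_apply, sub_eq_zero]
    exact ⟨fun h => h ▸ hq v, fun h => (hq' v h).symm⟩
  have hker : LinearMap.ker (1 - q) = B := Submodule.ext fun v => by rw [LinearMap.mem_ker, h3]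
  have hr : Module.finrank K (LinearMap.range (1 - q)) = Module.finrank K A := by
    have := LinearMap.finrank_range_add_finrank_ker (1 - q)
    rw [hker] at this
    omega
  let l : A ≃ₗ[K] LinearMap.range (1 - q) := LinearEquiv.ofFinrankEq _ _ hr.symm
  have h33 : (1 - q) * (1 - q) = 1 - q := by
    rw [mul_sub, mul_one, sub_mul, one_mul, hqq, sub_self, sub_zero]
  have h11 : p * q * (p * q) = p * q := by
    rw [mul_assoc, ← mul_assoc q, hqp, ← mul_assoc, hpp]
  have h33' : ∀ w : LinearMap.range (1 - q), (1 - q) (w : V) = w := by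
    rintro ⟨_, v, rfl⟩
    exact LinearMap.congr_fun h33 v
  have h1A : ∀ a : A, (p * q) (a : V) = a := by
    intro a
    rw [Module.End.mul_apply, hq' _ (hAB a.2), hp' _ a.2]
  let L : R K V := (LinearMap.range (1 - q)).subtype ∘ₗ (l : A →ₗ[K] _) ∘ₗ
    (LinearMap.codRestrict A (p * q) (fun v => hp _))
  let J : R K V := A.subtype ∘ₗ (l.symm : _ →ₗ[K] A) ∘ₗ (1 - q).rangeRestrict
  have hL : ∀ v, L v = (l ⟨(p * q) v, hp _⟩ : V) := fun v => rfl
  have hJ : ∀ v, J v = (l.symm ⟨(1 - q) v, v, rfl⟩ : V) := fun v => rfl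
  have h13 : p * q * (1 - q) = 0 := by rw [mul_sub, mul_one, mul_assoc, hqq, sub_self]
  have h31 : (1 - q) * (p * q) = 0 := by rw [sub_mul, one_mul, ← mul_assoc, hqp, sub_self]
  refine ⟨p * q, q - p * q, 1 - q, J, L, ⟨h11, ?_, h33, ?_, h13, ?_, ?_, h31, ?_, ?_, ?_, ?_, ?_, ?_, ?_, ?_⟩,
    fun v => hp _, fun v hv => h1A ⟨v, hv⟩, h3⟩
  · rw [mul_sub, sub_mul, sub_mul, hqq, h11, mul_assoc, hqq, ← mul_assoc, hqp, sub_self, sub_zero]
  · rw [mul_sub, h11, mul_assoc, hqq, sub_self]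
  · rw [sub_mul, h11, ← mul_assoc, hqp, sub_self]
  · rw [sub_mul, h13, sub_zero, mul_sub, mul_one, hqq, sub_self]
  · rw [mul_sub, h31, sub_zero, sub_mul, one_mul, hqq, sub_self]
  · abel
  · ext v
    exact h1A ⟨J v, (l.symm _).2⟩
  · ext v
    rw [Module.End.mul_apply, hJ, hJ]
    have : (⟨(1 - q) ((1 - q) v), (1 - q) v, rfl⟩ : LinearMap.range (1 - q)) = ⟨(1 - q) v, v, rfl⟩ :=
      Subtype.ext (LinearMap.congr_fun h33 v)
    rw [this]
  · ext v
    exact h33' ⟨L v, (l _).2⟩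
  · ext v
    rw [Module.End.mul_apply, hL, hL]
    have : (⟨(p * q) ((p * q) v), hp _⟩ : A) = ⟨(p * q) v, hp _⟩ := Subtype.ext (LinearMap.congr_fun h11 v)
    rw [this]
  · ext v
    rw [Module.End.mul_apply, hJ]
    have : (⟨(1 - q) (L v), L v, rfl⟩ : LinearMap.range (1 - q)) = l ⟨(p * q) v, hp _⟩ := Subtype.ext (h33' ⟨L v, (l _).2⟩)
    rw [this, l.symm_apply_apply]
  · ext v
    rw [Module.End.mul_apply, hL]
    have : (⟨(p * q) (J v), hp _⟩ : A) = l.symm ⟨(1 - q) v, v, rfl⟩ := Subtype.ext (h1A ⟨J v, (l.symm _).2⟩)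
    rw [this, l.apply_symm_apply]

end dim

section main

variable {K : Type u} [Field K] {V : Type v} [AddCommGroup V] [Module K V]

theorem Lat.inv {S : Subgroup (Equiv.Perm (R K V))} {W : Submodule K V} (h : Lat S W) {f : Equiv.Perm (R K V)}
    (hf : f ∈ S) (hfP : f ∈ RP K V) : Stb f⁻¹ W := h _ (inv_mem hf) (inv_mem hfP)

/-- The final case: the existence of a non-zero invariant flag. -/
theorem flag_case [Finite K] [Module.Finite K V] (S : Subgroup (Equiv.Perm (R K V))) (hS : S ≤ RA K V)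
    (h3 : 3 ≤ Module.finrank K V) (hsol : Group.IsSolvable S) {A B : Submodule K V} (hA0 : A ≠ ⊥) (hAB : A ≤ B)
    (hdim : Module.finrank K A + Module.finrank K B = Module.finrank K V) (hA : Lat S A) (hB : Lat S B)
    (hcA : ∀ f ∈ S, f ∉ RP K V → Cor f A B) (hcB : ∀ f ∈ S, f ∉ RP K V → Cor f B A)
    (hcr : ∀ C : Submodule K V, A ≤ C → C ≤ B → Lat S C →
      ∃ C' : Submodule K V, A ≤ C' ∧ C' ≤ B ∧ Lat S C' ∧ C ⊓ C' = A ∧ C ⊔ C' = B) : Five S := by
  classical
  have : Nontrivial V := Module.nontrivial_of_finrank_pos (R := K) (by omega)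
  have hfV : Finite V := Module.finite_of_finite K
  obtain ⟨S', hS'1, hS'2, hS'3, hS'4, hS'5, -⟩ := Cfsg.Agent.H200.FC.stmtBridge_of.{u, v} Cfsg.Agent.H277.FC.stmtSN
    K V (by omega) (S ⊓ RP K V) inf_le_right
    (Group.isSolvable_of_isSolvable_injective (f := Subgroup.inclusion (inf_le_left : S ⊓ RP K V ≤ S))
      (Subgroup.inclusion_injective _))
  have hSN := Cfsg.Agent.H277.FC.stmtSN.{u, v} K V (by omega)
  have hLat : ∀ W : Submodule K V, Lat S W ↔ ∀ g ∈ S', ∀ w ∈ W, g w ∈ W := by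
    intro W
    constructor
    · exact fun h => hS'5 W fun f hf => h f hf.1 hf.2
    · intro h f hf hfP X hX v
      obtain ⟨g, hg, hgf⟩ := hSN f hfP
      have hg' : g ∈ S' := (hS'4 g hg).2 ⟨f, ⟨hf, hfP⟩, hgf⟩
      obtain ⟨w, rfl⟩ := g.surjective v
      rw [hgf]
      exact h g hg' _ (hX w)
  obtain ⟨w, hwB, hw⟩ := base_sec hS'1 hS'2 hS'3 hAB ((hLat A).1 hA) ((hLat B).1 hB) (by
    intro C hAC hCB hC
    obtain ⟨C', h1, h2, h3, h4, h5⟩ := hcr C hAC hCB ((hLat C).2 hC)
    exact ⟨C', h1, h2, (hLat C').1 h3, h4, h5⟩)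
  obtain ⟨e1, e2, e3, J, L, hI, h1A, h1A', h3B⟩ := exists_idm A B hAB hdim
  have hr : LinearMap.range e1 = A := by
    ext v
    constructor
    · rintro ⟨w, rfl⟩
      exact h1A w
    · exact fun h => ⟨v, h1A' v h⟩
  have he0 : e1 ≠ 0 := by
    intro h
    rw [h, LinearMap.range_zero] at hr
    exact hA0 hr.symm
  obtain ⟨β, b0, Y, hsh, hY⟩ := exists_shift hI.h11 he0
  -- `im X ⊆ A`
  have imA : ∀ X : R K V, e1 * X = X ↔ ∀ v, X v ∈ A := by
    intro X
    constructor
    · intro h v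
      rw [← h]
      exact h1A _
    · exact fun h => LinearMap.ext fun v => h1A' _ (h v)
  have imB : ∀ X : R K V, e3 * X = 0 ↔ ∀ v, X v ∈ B := by
    intro X
    constructor
    · intro h v
      exact (h3B _).1 (LinearMap.congr_fun h v)
    · exact fun h => LinearMap.ext fun v => (h3B _).2 (h v)
  have he2B : ∀ v, e2 v ∈ B := fun v => (h3B _).1 (LinearMap.congr_fun hI.h32 v)
  -- the vectors `u i`
  have hz : ∃ z : V, e2 ≠ 0 → e2 z ≠ 0 := by
    by_cases h : e2 = 0
    · exact ⟨0, fun h' => absurd h h'⟩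
    · by_contra hcon
      push Not at hcon
      exact h (LinearMap.ext fun v => (hcon v).2)
  obtain ⟨z, hz⟩ := hz
  let u : Fin 3 → V := fun i => if e2 (w i) = 0 then e2 z else e2 (w i)
  have h22 : ∀ v, e2 (e2 v) = e2 v := fun v => LinearMap.congr_fun hI.h22 v
  refine five_flag S hS hSN hI hsh ?_ ?_ ?_ (u := u) ?_ ?_ ?_
  · intro h
    refine hY ?_
    rw [hr]
    have hBA : B ≤ A := by
      intro v hv
      have h5 : v = e1 v + e2 v + e3 v := (LinearMap.congr_fun hI.hs v).symm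
      rw [(h3B v).2 hv, h, LinearMap.zero_apply, add_zero, add_zero] at h5
      rw [h5]
      exact h1A v
    have : A = B := le_antisymm hAB hBA
    rw [← this] at hdim
    omega
  · intro f hf hfP
    constructor
    · intro X hX
      exact (imA _).2 (hA f hf hfP X ((imA X).1 hX))
    · intro X hX
      exact (imB _).2 (hB f hf hfP X ((imB X).1 hX))
  · intro f hf hfP
    constructor
    · intro X hX
      have h5 := hcA f hf hfP X ((imA X).1 hX)
      have h6 : f X * (e1 + e2) = 0 := LinearMap.ext fun v => h5 _ (B.add_mem (hAB (h1A v)) (he2B v))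
      have h7 : f X = f X * (e1 + e2) + f X * e3 := by rw [← mul_add, hI.hs, mul_one]
      rw [h6, zero_add] at h7
      exact h7.symm
    · intro X hX
      have h5 := hcB f hf hfP X ((imB X).1 hX)
      exact LinearMap.ext fun v => h5 _ (h1A v)
  · intro i
    by_cases h : e2 (w i) = 0
    · simp only [u, if_pos h, h22]
    · simp only [u, if_neg h, h22]
  · intro h
    by_cases h' : e2 (w 0) = 0
    · simp only [u, if_pos h']
      exact hz h
    · simp only [u, if_neg h']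
      exact h'
  · intro f hf hfP g hg hgf hg1 hg2 hgu v
    have hg' : g ∈ S' := (hS'4 g hg).2 ⟨f, ⟨hf, hfP⟩, hgf⟩
    have hg0 : g 0 = 0 := semi_zero hS'1 hg'
    have h5 : ∀ i, g (w i) - w i ∈ A := by
      intro i
      have h6 : w i = e1 (w i) + e2 (w i) := by
        have h7 : w i = e1 (w i) + e2 (w i) + e3 (w i) := (LinearMap.congr_fun hI.hs (w i)).symm
        rwa [(h3B _).2 (hwB i), add_zero] at h7
      have h8 : g (e2 (w i)) = e2 (w i) := by
        by_cases h : e2 (w i) = 0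
        · rw [h, hg0]
        · have := hgu i
          simp only [u, if_neg h] at this
          exact this
      have h9 : g (w i) - w i = e1 (g (w i) - w i) := by
        have h10 : g (w i) = e1 (g (w i)) + e2 (w i) := by
          conv_lhs => rw [h6]
          rw [hg.1, h8, hg1]
        calc g (w i) - w i = (e1 (g (w i)) + e2 (w i)) - (e1 (w i) + e2 (w i)) := by rw [← h10, ← h6]
          _ = e1 (g (w i)) - e1 (w i) := by abel
          _ = e1 (g (w i) - w i) := (map_sub _ _ _).symm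
      rw [h9]
      exact h1A _
    have h11 := hw g hg' h5 (e2 v) (he2B v)
    have h12 := h1A' _ h11
    have h13 : e1 (e2 v) = 0 := LinearMap.congr_fun hI.h12 v
    rw [map_sub, ← hg1, h13, hg0, sub_zero] at h12
    exact (sub_eq_zero.1 h12.symm)

/-- the completely reducible case (helper10) -/
def StmtG4 : Prop :=
  ∀ (K : Type u) [Field K] [Finite K] (V : Type v) [AddCommGroup V] [Module K V] [Module.Finite K V]
    (S : Subgroup (Equiv.Perm (R K V))), S ≤ RA K V → 3 ≤ Module.finrank K V → Group.IsSolvable S →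
    (∃ W : Submodule K V, W ≠ ⊥ ∧ W ≠ ⊤ ∧ ∀ f ∈ S, f ∈ RP K V → Stb f W) →
    (∀ W : Submodule K V, (∀ f ∈ S, f ∈ RP K V → Stb f W) → ∃ W' : Submodule K V,
      (∀ f ∈ S, f ∈ RP K V → Stb f W') ∧ W ⊓ W' = ⊥ ∧ W ⊔ W' = ⊤) → Five S

theorem stmtRedCor_of (hG4 : StmtG4.{u, v}) : StmtRedCor.{u, v} := by
  intro K _ _ V _ _ _ S hS h3 hsol hκ hred
  obtain ⟨κ, hκ, hκP⟩ := hκ
  have : Nontrivial V := Module.nontrivial_of_finrank_pos (R := K) (by omega)
  obtain ⟨σ, g, hσ, hg⟩ := Cfsg.Agent.H277.FC.stmtSNcor.{u, v} K V (by omega) κ (hS hκ) (anti_mul hS hκ hκP)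
  have hdim : ∀ W : Submodule K V, Module.finrank K (star κ W) + Module.finrank K W = Module.finrank K V :=
    finrank_star hσ hg
  have hss : ∀ W : Submodule K V, Lat S W → star κ (star κ W) = W := by
    intro W hW
    refine (Submodule.eq_of_le_of_finrank_eq (le_star_star hS hκ hκP hW) ?_).symm
    have h1 := hdim W
    have h2 := hdim (star κ W)
    omega
  have hst : ∀ W : Submodule K V, Lat S W → Lat S (star κ W) := fun W hW => Lat.star hS hκ hκP hW
  have hself : ∀ C : Submodule K V, C ⊓ star κ C ≤ star κ (C ⊓ star κ C) := fun C =>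
    inf_le_right.trans (star_anti κ inf_le_left)
  obtain ⟨A, ⟨hA, hAA⟩, hmax⟩ := (wellFounded_gt (α := Submodule K V)).has_min
    {A : Submodule K V | Lat S A ∧ A ≤ star κ A} ⟨⊥, fun f hf hfP X hX v => by
      have : X = 0 := LinearMap.ext fun v => hX v
      rw [this, add0 hfP.1]
      exact Submodule.zero_mem _, bot_le⟩
  -- complete reducibility between `A` and `A*`
  have hcr : ∀ C : Submodule K V, A ≤ C → C ≤ star κ A → Lat S C →
      A ≤ star κ C ∧ star κ C ≤ star κ A ∧ Lat S (star κ C) ∧ C ⊓ star κ C = A ∧ C ⊔ star κ C = star κ A := by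
    intro C hAC hCB hC
    have h1 : A ≤ star κ C := by
      have := star_anti κ hCB
      rwa [hss A hA] at this
    have h2 : star κ C ≤ star κ A := star_anti κ hAC
    have h4 : C ⊓ star κ C = A := by
      by_contra hne
      exact hmax _ ⟨hC.inf (hst C hC), hself C⟩ (lt_of_le_of_ne (le_inf hAC h1) (Ne.symm hne))
    refine ⟨h1, h2, hst C hC, h4, Submodule.eq_of_le_of_finrank_eq (sup_le hCB h2) ?_⟩
    have h5 := Submodule.finrank_sup_add_finrank_inf_eq C (star κ C)
    rw [h4] at h5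
    have h6 := hdim C
    have h7 := hdim A
    omega
  by_cases hA0 : A = ⊥
  · subst hA0
    refine hG4 K V S hS h3 hsol hred fun W hW => ?_
    have htop : star κ (⊥ : Submodule K V) = ⊤ := by
      rw [eq_top_iff]
      intro w _ X hX
      have : X = 0 := LinearMap.ext fun v => hX v
      rw [this, add0 (hS hκ).1]
      rfl
    obtain ⟨-, -, h6, h7, h8⟩ := hcr W bot_le (by rw [htop]; exact le_top) hW
    exact ⟨star κ W, h6, h7, h8.trans htop⟩
  · refine flag_case S hS h3 hsol hA0 hAA ?_ hA (hst A hA) (fun f hf hfP => cor_star hS hκ hκP hA hf hfP)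
      (fun f hf hfP => ?_) (fun C h1 h2 h4 => ⟨star κ C, hcr C h1 h2 h4⟩)
    · have := hdim A
      omega
    · have := cor_star hS hκ hκP (hst A hA) hf hfP
      rwa [hss A hA] at this

/-- **S5764, StmtRedCor** -/
theorem stmtRedCor : StmtRedCor.{u, v} :=
  stmtRedCor_of fun _ _ _ _ _ _ _ S hS h3 hsol hred hcr => Cfsg.Agent.H10.FC.stmtG4 S hS h3 hsol hred hcr

end main

end Cfsg.Agent.H923.FC
end
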